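import Cfsg.Agent.H564.EPF.Fin
import Cfsg.Agent.H929.TB.Bound
import Cfsg.Agent.S1068

/-!
# S5745: no stabiliser with socle `A₅` in a large group (helper564; the bound of helper929)

* `a5_false` : `|G| > 59 · 2^60 · 120`;
* `a5_tf4` : `G = ²F₄(q)`;
* `own_tf4_fin` : `Own 2 G`, `G = ²F₄(q)`, from `R1All` and `OwnQ2 G`.
-/

set_option autoImplicit false
set_option linter.unusedSectionVars false

namespace Cfsg.Agent.H564.EPF

open Cfsg.Agent.H284 Cfsg.Agent.H209.EPX Cfsg.Agent.H542.EPX Cfsg.Agent.H929.TB Cfsg.Agent.H470.EPO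
open Cfsg.Agent.H419.EP Cfsg.Agent.H417.EP Cfsg.Agent.H226.EX

/-- **socle `A₅` in a large group** -/
theorem a5_false {F : Type} [Field F] [Fintype F] (hF : Fintype.card F = 4) {G : Type} [Group G] [Finite G]
    [IsSimpleGroup G] {H N : Subgroup G} {T : Type} [Group T] {e : N ≃* (Fin 1 → T)} (h : EPS H N e)
    (i : T ≃* Matrix.ProjectiveSpecialLinearGroup (Fin 2) F) (hG : 59 * 2 ^ 60 * 120 < Nat.card G) : False := by
  classical
  have hp : Fact (Nat.Prime 2) := ⟨Nat.prime_two⟩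
  have hc : Nat.card (Matrix.ProjectiveSpecialLinearGroup (Fin 2) F) = 60 := by
    have h2 := Cfsg.Agent.H394.SqPsl2.card_psl (F := F)
    rw [hF] at h2
    have h3 : Nat.gcd 2 (4 - 1) = 1 := by norm_num
    rw [h3, one_mul] at h2
    simpa using h2
  have hm : {K : Subgroup (Matrix.ProjectiveSpecialLinearGroup (Fin 2) F) | Adm K}.ncard ≤ 2 ^ 60 := by
    have h1 : {K : Subgroup (Matrix.ProjectiveSpecialLinearGroup (Fin 2) F) | Adm K}.ncard ≤
        Nat.card (Set (Matrix.ProjectiveSpecialLinearGroup (Fin 2) F)) := by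
      rw [← Nat.card_coe_set_eq]
      exact Nat.card_le_card_of_injective
        (fun K : {K : Subgroup (Matrix.ProjectiveSpecialLinearGroup (Fin 2) F) | Adm K} =>
          ((K : Subgroup (Matrix.ProjectiveSpecialLinearGroup (Fin 2) F)) :
            Set (Matrix.ProjectiveSpecialLinearGroup (Fin 2) F)))
        (fun a b hab => Subtype.ext (SetLike.coe_injective hab))
    refine h1.trans (le_of_eq ?_)
    have : Fintype (Matrix.ProjectiveSpecialLinearGroup (Fin 2) F) := Fintype.ofFinite _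
    rw [Nat.card_eq_fintype_card, Fintype.card_set, ← Nat.card_eq_fintype_card, hc]
  have h1 := index_all (ept_of_eps h) ((hasSoc_of_eps h).congr i) (by omega) hm
  rw [hc] at h1
  have hB : H.index ≤ 59 * 2 ^ 60 := by omega
  exact dead h i hB (card_aut (p := 2) (f := 2) (q := 4) (by norm_num) hF (by norm_num) (by norm_num)) (by
    norm_num at hG ⊢
    exact hG)

/-- the order of `²F₄(q)` -/
theorem card_tf4_gt {G : Type} [Group G] (hG : Cfsg.Lie.Iso2F4 G) : 59 * 2 ^ 60 * 120 < Nat.card G := by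
  obtain ⟨K, _, _, m, hm, hK, ⟨f⟩⟩ := hG
  rw [Nat.card_congr f.toEquiv, Cfsg.Agent.S1068.result hK]
  have h8 : 8 ≤ 2 ^ (2 * m + 1) := by
    calc 8 = 2 ^ 3 := by norm_num
      _ ≤ 2 ^ (2 * m + 1) := Nat.pow_le_pow_right (by norm_num) (by omega)
  generalize 2 ^ (2 * m + 1) = q at h8
  have h1 : 8 ^ 12 ≤ q ^ 12 := Nat.pow_le_pow_left h8 12
  have h2 : 7 ≤ q - 1 := by omega
  have h3 : 8 ^ 3 + 1 ≤ q ^ 3 + 1 := Nat.succ_le_succ (Nat.pow_le_pow_left h8 3)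
  have h4 : 8 ^ 4 - 1 ≤ q ^ 4 - 1 := Nat.sub_le_sub_right (Nat.pow_le_pow_left h8 4) 1
  have h6 : 8 ^ 6 + 1 ≤ q ^ 6 + 1 := Nat.succ_le_succ (Nat.pow_le_pow_left h8 6)
  calc 59 * 2 ^ 60 * 120 < 8 ^ 12 * 7 * (8 ^ 3 + 1) * (8 ^ 4 - 1) * (8 ^ 6 + 1) := by norm_num
    _ ≤ _ := Nat.mul_le_mul (Nat.mul_le_mul (Nat.mul_le_mul (Nat.mul_le_mul h1 h2) h3) h4) h6

/-- **`OwnR1 2 G`**, `G = ²F₄(q)` -/
theorem ownR1_tf4_fin (hR : R1All) {G : Type} [Group G] [Finite G] [IsSimpleGroup G] (hG : Cfsg.Lie.Iso2F4 G) :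
    OwnR1 2 G :=
  ownR1_tf4 hR hG fun _ _ _ _ _ h _ _ _ h4 f => a5_false h4 h f (card_tf4_gt hG)

/-- **`Own 2 G`**, `G = ²F₄(q)` -/
theorem own_tf4_fin (hR : R1All) {G : Type} [Group G] [Finite G] [IsSimpleGroup G] (hG : Cfsg.Lie.Iso2F4 G)
    (h2 : OwnQ2 G) : Own 2 G :=
  own_tf4 hR hG h2 fun _ _ _ _ _ h _ _ _ h4 f => a5_false h4 h f (card_tf4_gt hG)

end Cfsg.Agent.H564.EPF
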