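import Cfsg.Agent.H564.EPF.OD

/-!
# Borel–Tits for octagonal root groups (helper564, S3499)

Chambers = conjugates of `U`; the panel of type `j` of `cj g U` is given by `cj g (V j)`.
* `f0`, `f1`, `f2`, `f3` : ascents and descents;
* `step` : galleries in the fixed chambers of a subgroup `Q ≠ 1`;
* `bt` : a `2`-subgroup `Q ≠ 1` contained in a conjugate of `U` has `Q ≤ g V_J g⁻¹`, `N(Q) ≤ g P_J g⁻¹` with `J ≠ I`
  (the set of the fixed chambers of minimal eccentricity is contained in a panel).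
-/

set_option autoImplicit false
set_option linter.unusedSectionVars false

namespace Cfsg.Agent.H564.EPF

open Cfsg.Agent.H284 Cfsg.Agent.TitsThree.RankTwoZ

universe u

namespace OD

variable {G : Type u} [Group G] {D : OD G} [Finite G]

omit [Finite G] in
theorem X_le_cj {m : G} {w : W} (hm : D.Mp m w) {j : Fin 2} (hw : ps (ac (iw w) (sr j)) = true) :
    D.X (sr j) ≤ cj m D.U := by
  intro x hx
  rw [mem_cj]
  exact D.X_le_U _ hw (hm.conj_inv hx)

omit [Finite G] in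
theorem X_not_le (j : Fin 2) {K : Subgroup G} (h : D.X (sr j) ≤ K) : ¬ K ≤ D.V j := by
  intro h1
  obtain ⟨x, hx, hx1⟩ := D.ne (sr j)
  exact hx1 (D.not_V j (sr j) (sr_not_nr j) x hx (h1 (h hx)))

omit [Finite G] in
/-- descents -/
theorem desc_iff {m : G} {w : W} (hm : D.Mp m w) (j : Fin 2) :
    D.U ⊓ cj m D.U ≤ D.V j ↔ ps (ac (iw w) (sr j)) = false := by
  constructor
  · intro h
    by_contra hcon
    exact X_not_le j (le_inf (D.X_le_U _ (sr_ps j)) (X_le_cj hm (by simpa using hcon))) h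
  · rintro h u ⟨hu, hu'⟩
    replace hu' : u ∈ cj m D.U := hu'
    rw [mem_cj] at hu'
    exact D.cut j w m hm h u hu hu'

theorem cjU_eq {g g' : G} (h : g⁻¹ * g' ∈ Subgroup.normalizer (D.U : Set G)) : cj g' D.U = cj g D.U := by
  have e : g' = g * (g⁻¹ * g') := by group
  rw [e, cj_mul, cj_nm.1 h]

theorem cjV_eq {g g' : G} {j : Fin 2} (h : g⁻¹ * g' ∈ Subgroup.normalizer (D.V j : Set G)) :
    cj g' (D.V j) = cj g (D.V j) := by
  have e : g' = g * (g⁻¹ * g') := by group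
  rw [e, cj_mul, cj_nm.1 h]

theorem nm_of_cj {K : Subgroup G} {g g' : G} (h : cj g' K = cj g K) : g⁻¹ * g' ∈ Subgroup.normalizer (K : Set G) := by
  rw [cj_nm, cj_mul, h, cj_inv_cj]

theorem cjV_of_cjU {g g' : G} (h : cj g' D.U = cj g D.U) (j : Fin 2) : cj g' (D.V j) = cj g (D.V j) :=
  cjV_eq (NU_le_NV j (nm_of_cj h))

/-- standard position -/
theorem std (D : OD G) (g h : G) : ∃ (a : G) (w : W) (m : G), D.Mp m w ∧ cj g D.U = cj a D.U ∧ cj h D.U = cj (a * m) D.U ∧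
    ∀ j, cj g (D.V j) = cj a (D.V j) := by
  obtain ⟨w, b, hb, m, hm, b', hb', e⟩ := D.bru (g⁻¹ * h)
  have h1 : cj g D.U = cj (g * b) D.U := by rw [cj_mul, cj_eq_self hb]
  refine ⟨g * b, w, m, hm, h1, ?_, fun j => cjV_of_cjU h1 j⟩
  have e2 : h = g * b * m * b' := by
    have : h = g * (g⁻¹ * h) := by group
    rw [this, e]; group
  rw [e2, cj_mul, cj_eq_self hb']

theorem pos_iff {g h a m : G} {w : W} (hm : D.Mp m w) (h1 : cj g D.U = cj a D.U) (h2 : cj h D.U = cj (a * m) D.U)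
    (h3 : ∀ j, cj g (D.V j) = cj a (D.V j)) (j : Fin 2) :
    cj g D.U ⊓ cj h D.U ≤ cj g (D.V j) ↔ ps (ac (iw w) (sr j)) = false := by
  rw [h1, h2, h3, cj_mul, ← cj_inf, ← desc_iff hm]
  exact ⟨fun h => by have := cj_mono (x := a⁻¹) h; rwa [cj_inv_cj, cj_inv_cj] at this, fun h => cj_mono h⟩

/-- different chambers: there is a descent -/
theorem f0 {g h : G} (hne : cj g D.U ≠ cj h D.U) : ∃ j, cj g D.U ⊓ cj h D.U ≤ cj g (D.V j) := by
  obtain ⟨a, w, m, hm, h1, h2, h3⟩ := std D g h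
  by_contra hcon
  push Not at hcon
  apply hne
  have h4 : w = (0, false) := by
    apply eq_one_of
    intro j
    have := hcon j
    rw [pos_iff hm h1 h2 h3] at this
    simpa using this
  subst h4
  rw [h1, h2, cj_mul, cj_nm.1 (mem_nm hm.U)]

/-- two descents: opposite chambers -/
theorem f1 {g h : G} (hd : ∀ j, cj g D.U ⊓ cj h D.U ≤ cj g (D.V j)) : cj g D.U ⊓ cj h D.U = ⊥ := by
  obtain ⟨a, w, m, hm, h1, h2, h3⟩ := std D g h
  have h4 := opp_of w fun j => (pos_iff hm h1 h2 h3 j).1 (hd j)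
  rw [h1, h2, cj_mul, ← cj_inf, cj_eq_bot_iff, eq_bot_iff]
  rintro u ⟨hu, hu'⟩
  replace hu' : u ∈ cj m D.U := hu'
  rw [mem_cj] at hu'
  have h5 := D.opp w m hm h4 _ hu' (by
    have e : m * (m⁻¹ * u * m) * m⁻¹ = u := by group
    rw [e]; exact hu)
  rw [Subgroup.mem_bot]
  have e : u = m * (m⁻¹ * u * m) * m⁻¹ := by group
  rw [e, h5]; group

/-- every panel has a gate -/
theorem f2 (g h : G) (j : Fin 2) : ∃ g', cj g' (D.V j) = cj g (D.V j) ∧ ¬ cj g' D.U ⊓ cj h D.U ≤ cj g' (D.V j) := by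
  by_cases hd : cj g D.U ⊓ cj h D.U ≤ cj g (D.V j)
  · obtain ⟨a, w, m, hm, h1, h2, h3⟩ := std D g h
    obtain ⟨n, hn⟩ := D.rep (sp j)
    have hnV : n ∈ Subgroup.normalizer (D.V j : Set G) := mem_nm (Mp.V (D := D) hn (Or.inr rfl))
    have h4 : cj (a * n) (D.V j) = cj g (D.V j) := by rw [cj_mul, cj_nm.1 hnV, h3]
    refine ⟨a * n, h4, ?_⟩
    have hm' : D.Mp (n⁻¹ * m) (mw (iw (sp j)) w) := (Mp.inv (D := D) hn).mul hm
    rw [iw_sp] at hm'
    rw [pos_iff (g := a * n) (a := a * n) hm' rfl (by rw [h2]; congr 1; group) (fun _ => rfl), flip,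
      (pos_iff hm h1 h2 h3 j).1 hd]
    simp
  · exact ⟨g, rfl, hd⟩

/-- the gate is unique -/
theorem f3 {g h g' : G} {j : Fin 2} (hd : ¬ cj g D.U ⊓ cj h D.U ≤ cj g (D.V j)) (hV : cj g' (D.V j) = cj g (D.V j))
    (hne : cj g' D.U ≠ cj g D.U) : cj g' D.U ⊓ cj h D.U ≤ cj g' (D.V j) := by
  obtain ⟨a, w, m, hm, h1, h2, h3⟩ := std D g h
  have hw : ps (ac (iw w) (sr j)) = true := by
    rw [pos_iff hm h1 h2 h3] at hd
    simpa using hd
  have h4 : a⁻¹ * g' ∈ Subgroup.normalizer (D.V j : Set G) := nm_of_cj (by rw [hV, h3])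
  obtain ⟨w', c, hc, m', hm', c', hc', e⟩ := D.bru (a⁻¹ * g')
  have h5 := h4
  rw [e, mem_NV hc hc' hm'] at h5
  rcases h5 with rfl | rfl
  · exfalso
    apply hne
    rw [h1]
    apply cjU_eq
    rw [e, mem_NU hc hc' hm']
  · obtain ⟨x, hx, v, hv, rfl⟩ := D.fac j c hc
    have hm'V : m' ∈ Subgroup.normalizer (D.V j : Set G) := mem_nm (Mp.V (D := D) hm' (Or.inr rfl))
    have hxU : x ∈ D.U := D.X_le_U _ (sr_ps j) hx
    have hvm : v ∈ cj m' D.U := by
      have : v ∈ cj m' (D.V j) := by rw [cj_nm.1 hm'V]; exact hv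
      exact cj_mono (V_le_U j) this
    have hxm : x ∈ cj m D.U := X_le_cj hm hw hx
    have h6 : cj g' D.U = cj (a * x * m') D.U := by
      have e2 : g' = a * x * v * m' * c' := by
        have : g' = a * (a⁻¹ * g') := by group
        rw [this, e]; group
      rw [e2, cj_mul, cj_eq_self hc', cj_mul, cj_mul (a * x) v, cj_eq_self hvm, ← cj_mul]
    have h7 : cj h D.U = cj (a * x * m' * (m'⁻¹ * m)) D.U := by
      have e2 : a * x * m' * (m'⁻¹ * m) = a * x * m := by group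
      rw [h2, e2, cj_mul (a * x) m, cj_mul a x, cj_eq_self hxm, ← cj_mul]
    have h8 : D.Mp (m'⁻¹ * m) (mw (sp j) w) := by
      have := (Mp.inv (D := D) hm').mul hm
      rwa [iw_sp] at this
    rw [pos_iff h8 h6 h7 (fun i => cjV_of_cjU h6 i), flip, hw]
    rfl

/-! ### galleries -/

theorem card_lt {A B : Subgroup G} (h : A < B) : Nat.card A < Nat.card B := by
  by_contra hcon
  exact h.ne (Subgroup.eq_of_le_of_card_ge h.le (not_lt.1 hcon))

/-- going away -/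
theorem lt_of_away {g h g' : G} {j : Fin 2} (hd : ¬ cj g D.U ⊓ cj h D.U ≤ cj g (D.V j))
    (hV : cj g' (D.V j) = cj g (D.V j)) (hne : cj g' D.U ≠ cj g D.U) :
    Nat.card ↥(cj g' D.U ⊓ cj h D.U) < Nat.card ↥(cj g D.U ⊓ cj h D.U) := by
  have h1 := f3 hd hV hne
  apply card_lt
  refine lt_of_le_of_ne (le_inf ?_ inf_le_right) ?_
  · rw [hV] at h1
    exact h1.trans (cj_mono (V_le_U j))
  · intro h2
    apply hd
    rw [← h2, ← hV]
    exact h1

/-- a gallery going away from `e` -/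
theorem step {Q : Subgroup G} (hQ1 : Q ≠ ⊥) : ∀ (n : ℕ) (g s e : G) (j : Fin 2),
    Nat.card G - Nat.card ↥(cj g D.U ⊓ cj s D.U) = n → Q ≤ cj g D.U → Q ≤ cj s D.U → Q ≤ cj e D.U →
    cj g D.U ≠ cj s D.U → cj g D.U ⊓ cj e D.U ≤ cj g (D.V j) → ¬ cj g D.U ⊓ cj s D.U ≤ cj g (D.V j) →
    Nat.card ↥(cj s D.U ⊓ cj e D.U) < Nat.card ↥(cj g D.U ⊓ cj e D.U) := by
  intro n
  induction n using Nat.strong_induction_on with
  | _ n ih =>
    intro g s e j hn hg hs he hne h1 h2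
    obtain ⟨i, hi⟩ := f0 hne
    have hij : i ≠ j := by rintro rfl; exact h2 hi
    obtain ⟨g', hV, hd⟩ := f2 (D := D) g s i
    have hgg : cj g' D.U ≠ cj g D.U := by
      intro h3
      apply hd
      rw [hV, h3]
      exact hi
    -- `e` is an ascent of `g` in the panel of type `i`
    have h3 : ¬ cj g D.U ⊓ cj e D.U ≤ cj g (D.V i) := by
      intro h4
      have h5 := f1 (D := D) (g := g) (h := e) (fun l => by
        by_cases hl : l = j
        · rw [hl]; exact h1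
        · rw [← fin2 i j l hij hl]; exact h4)
      apply hQ1
      rw [eq_bot_iff, ← h5]
      exact le_inf hg he
    have h4 := lt_of_away h3 hV hgg
    by_cases h5 : cj g' D.U = cj s D.U
    · rw [← h5]; exact h4
    · have hg' : Q ≤ cj g' D.U := by
        refine (le_inf hg hs).trans (hi.trans ?_)
        rw [← hV]
        exact cj_mono (V_le_U i)
      have h6 := lt_of_away hd hV.symm hgg.symm
      have h7 : Nat.card ↥(cj g' D.U ⊓ cj s D.U) ≤ Nat.card G := Subgroup.card_le_card_group _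
      have h8 := ih (Nat.card G - Nat.card ↥(cj g' D.U ⊓ cj s D.U)) (by omega) g' s e i rfl hg' hs he h5
        (f3 h3 hV hgg) hd
      exact h8.trans h4

/-! ### Borel–Tits -/

section bt

variable (D) in
/-- the distances from `g` to the chambers fixed by `Q` -/
def dist (Q : Subgroup G) (g : G) : Set ℕ := {n | ∃ e, Q ≤ cj e D.U ∧ n = Nat.card ↥(cj g D.U ⊓ cj e D.U)}

variable (D) in
/-- the eccentricity -/
noncomputable def ecc (Q : Subgroup G) (g : G) : ℕ := sInf (D.dist Q g)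

variable {Q : Subgroup G}

theorem ecc_mem {g₀ : G} (h₀ : Q ≤ cj g₀ D.U) (g : G) : ∃ e, Q ≤ cj e D.U ∧ D.ecc Q g = Nat.card ↥(cj g D.U ⊓ cj e D.U) :=
  Nat.sInf_mem (s := D.dist Q g) ⟨_, g₀, h₀, rfl⟩

theorem ecc_le {e : G} (he : Q ≤ cj e D.U) (g : G) : D.ecc Q g ≤ Nat.card ↥(cj g D.U ⊓ cj e D.U) :=
  Nat.sInf_le ⟨e, he, rfl⟩

/-- maximisers are in a common panel -/
theorem adj_of_max (hQ1 : Q ≠ ⊥) {g s : G} (hg : Q ≤ cj g D.U) (hs : Q ≤ cj s D.U)
    (hmg : ∀ g', Q ≤ cj g' D.U → D.ecc Q g' ≤ D.ecc Q g) (hms : ∀ g', Q ≤ cj g' D.U → D.ecc Q g' ≤ D.ecc Q s)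
    (hne : cj g D.U ≠ cj s D.U) : ∃ j, cj g (D.V j) = cj s (D.V j) := by
  obtain ⟨j, hj⟩ := f0 hne
  obtain ⟨g', hV, hd⟩ := f2 (D := D) g s j
  have hg' : Q ≤ cj g' D.U := by
    refine (le_inf hg hs).trans (hj.trans ?_)
    rw [← hV]
    exact cj_mono (V_le_U j)
  have hgg : cj g' D.U ≠ cj g D.U := by
    intro h3
    apply hd
    rw [hV, h3]
    exact hj
  by_cases h1 : cj g' D.U = cj s D.U
  · exact ⟨j, by rw [← hV, cjV_of_cjU h1 j]⟩
  exfalso
  obtain ⟨e, he, hec⟩ := ecc_mem (D := D) hg g'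
  by_cases h2 : cj g' D.U ⊓ cj e D.U ≤ cj g' (D.V j)
  · have h3 := step (D := D) hQ1 _ g' s e j rfl hg' hs he h1 h2 hd
    have h4 := hms g' hg'
    have h5 := ecc_le (D := D) he s
    omega
  · have h3 := lt_of_away h2 hV.symm hgg.symm
    have h4 := hmg g' hg'
    have h5 := ecc_le (D := D) he g
    omega

theorem ecc_smul {x : G} (hx : x ∈ Subgroup.normalizer (Q : Set G)) {g₀ : G} (h₀ : Q ≤ cj g₀ D.U) (g : G) :
    D.ecc Q g ≤ D.ecc Q (x * g) := by
  obtain ⟨e, he, hec⟩ := ecc_mem (D := D) h₀ (x * g)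
  have h1 : Q ≤ cj (x⁻¹ * e) D.U := by
    rw [cj_mul, ← cj_nm.1 (inv_mem hx)]
    exact cj_mono he
  have h2 := ecc_le (D := D) h1 g
  rw [hec]
  have h3 : cj (x * g) D.U ⊓ cj e D.U = cj x (cj g D.U ⊓ cj (x⁻¹ * e) D.U) := by
    rw [cj_inf, ← cj_mul, ← cj_mul, mul_inv_cancel_left]
  rw [h3, card_cj]
  exact h2

/-- **Borel–Tits** -/
theorem bt (hQ1 : Q ≠ ⊥) {g₀ : G} (h₀ : Q ≤ cj g₀ D.U) : ∃ (g : G) (J : Set (Fin 2)), J ≠ Set.univ ∧
    Q ≤ cj g (D.VV J) ∧ Subgroup.normalizer (Q : Set G) ≤ cj g (D.P J) := by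
  obtain ⟨g, hg, hmax⟩ := Set.exists_max_image {g : G | Q ≤ cj g D.U} (D.ecc Q) (Set.toFinite _) ⟨g₀, h₀⟩
  have hg' : Q ≤ cj g D.U := hg
  -- the maximisers are invariant under `N(Q)`
  have hinv : ∀ x ∈ Subgroup.normalizer (Q : Set G), Q ≤ cj (x * g) D.U ∧
      ∀ g', Q ≤ cj g' D.U → D.ecc Q g' ≤ D.ecc Q (x * g) := by
    intro x hx
    constructor
    · rw [cj_mul, ← cj_nm.1 hx]
      exact cj_mono hg'
    · intro g' h1
      exact (hmax g' h1).trans (ecc_smul hx h₀ g)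
  have hcj : ∀ {K : Subgroup G} {x : G}, cj (x * g) K = cj g K → x ∈ cj g (Subgroup.normalizer (K : Set G)) := by
    intro K x h1
    rw [mem_cj]
    have := nm_of_cj h1
    rwa [← mul_assoc] at this
  by_cases hall : ∀ s, Q ≤ cj s D.U → (∀ g', Q ≤ cj g' D.U → D.ecc Q g' ≤ D.ecc Q s) → cj s D.U = cj g D.U
  · refine ⟨g, ∅, Set.empty_ne_univ, by rw [VV_empty]; exact hg', ?_⟩
    intro x hx
    rw [P_empty]
    obtain ⟨h1, h2⟩ := hinv x hx
    exact hcj (hall _ h1 h2)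
  · push Not at hall
    obtain ⟨s, hs, hms, hne⟩ := hall
    obtain ⟨j, hj⟩ := adj_of_max hQ1 hg' hs (fun g' h => hmax g' h) hms (Ne.symm hne)
    have hUV : ¬ cj g D.U ⊓ cj g D.U ≤ cj g (D.V j) := by
      rw [inf_idem]
      intro h1
      have h2 := cj_mono (x := g⁻¹) h1
      rw [cj_inv_cj, cj_inv_cj] at h2
      exact X_not_le j (D.X_le_U _ (sr_ps j)) h2
    have hgs : cj g D.U ⊓ cj s D.U ≤ cj g (D.V j) := by
      have := f3 hUV hj.symm hne
      rw [inf_comm, hj]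
      exact this
    refine ⟨g, {j}, single_ne_univ j, ?_, ?_⟩
    · rw [VV_single]
      exact (le_inf hg' hs).trans hgs
    · intro x hx
      rw [P_single]
      apply hcj
      obtain ⟨h1, h2⟩ := hinv x hx
      by_cases h3 : cj (x * g) D.U = cj g D.U
      · exact cjV_of_cjU h3 j
      by_cases h4 : cj (x * g) D.U = cj s D.U
      · rw [cjV_of_cjU h4 j, hj]
      obtain ⟨i, hi⟩ := adj_of_max hQ1 h1 hg' h2 (fun g' h => hmax g' h) h3
      obtain ⟨l, hl⟩ := adj_of_max hQ1 h1 hs h2 hms h4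
      by_cases hij : i = j
      · rw [← hij]; exact hi
      by_cases hlj : l = j
      · rw [← hlj, hl, hlj, hj]
      exfalso
      have hil := fin2 i j l hij hlj
      subst hil
      -- `V_i ≤ V_j`
      have h5 : cj g (D.V i) ≤ cj g (D.V j) := by
        refine le_trans (le_inf (cj_mono (V_le_U i)) ?_) hgs
        rw [← hi, hl]
        exact cj_mono (V_le_U i)
      have h6 := cj_mono (x := g⁻¹) h5
      rw [cj_inv_cj, cj_inv_cj] at h6
      exact X_not_le j (D.X_le_V i _ (nr_other i j hij)) h6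

end bt

end OD

end Cfsg.Agent.H564.EPF
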