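import Cfsg.Agent.H564.EPF.OD
import Cfsg.Agent.KFacts.TwF4.Rot
import Cfsg.Agent.KFacts.TwF4.SylU
import Cfsg.Agent.KFacts.TwF4.Full

/-!
# `²F₄(q)` has octagonal root groups `OD` (helper564, S3499)

* `ofFull` : from the coordinates `Full` and `U ∩ U⁻ = 1`;
* `opp` : `U ∩ U⁻ = 1` in the model (as in `H735.EB.TwRow`).
-/

set_option autoImplicit false
set_option linter.unusedSectionVars false

namespace Cfsg.Agent.H564.EPF

open Cfsg.Agent.H284 (cj)
open Cfsg.Agent.SplitTwo Cfsg.Agent.SplitTwo.ZS Cfsg.Agent.TitsThree.RankTwoZ Cfsg.Agent.TitsThree.RankTwoRGD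
open Cfsg.Agent.SplitTwo.RootSysZ
open Cfsg.Agent.KFacts.TwF4 Cfsg.Agent.KFacts.TwF4.Full

universe u

theorem dbl_int (c : ℤ) : dbl ((c : ℤ) : ZMod 8) = ((2 * c : ℤ) : Rt) := by
  have h1 : ((((c : ℤ) : ZMod 8).val : ℕ) : ℤ) = c % 8 := ZMod.val_intCast c
  have h2 : dbl ((c : ℤ) : ZMod 8) = ((2 * ((((c : ℤ) : ZMod 8).val : ℕ) : ℤ) : ℤ) : Rt) := by
    unfold dbl
    push_cast
    rfl
  rw [h2, h1, ZMod.intCast_eq_intCast_iff]
  show (2 * (c % 8)) % ((2 * 8 : ℕ) : ℤ) = (2 * c) % ((2 * 8 : ℕ) : ℤ)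
  push_cast
  omega

section

variable {F : Type*} [Field F] {σ : F →+* F} {G : Type u} [Group G] (S : Full σ G)

theorem xz_val (k : Rt) : S.XZ (k.val : ℤ) = S.R.X k := by
  show S.R.X (((k.val : ℕ) : ℤ) : ZMod (2 * 8)) = S.R.X k
  rw [Int.cast_natCast]
  congr 1
  exact ZMod.natCast_zmod_val k

theorem xz_per (k : ℤ) : S.XZ (k + 16) = S.XZ k := S.zsys8.per k

/-- negative roots -/
theorem neg_le_J {k : Rt} (hk : ps k = false) : S.R.X k ≤ J S.XZ 9 16 := by
  have h1 : k.val < 16 := ZMod.val_lt k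
  rcases Nat.eq_zero_or_pos k.val with h0 | h0
  · rw [← xz_val S k, h0]
    have : S.XZ (((0 : ℕ) : ℤ)) = S.XZ 16 := (xz_per S 0).symm
    rw [this]
    exact X_le_J (by norm_num) (by norm_num)
  · have h2 : ¬ k.val ≤ 8 := by
      intro h3
      simp only [ps, Bool.and_eq_false_iff, decide_eq_false_iff_not] at hk
      omega
    rw [← xz_val S k]
    exact X_le_J (by omega) (by omega)

theorem ps_iff {k : Rt} : ps k = true ↔ 1 ≤ k.val ∧ k.val ≤ 8 := by simp [ps]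

theorem pos_le_J {k : Rt} {a b : ℤ} (h1 : a ≤ k.val) (h2 : (k.val : ℤ) ≤ b) : S.R.X k ≤ J S.XZ a b := by
  rw [← xz_val S k]
  exact X_le_J h1 h2

theorem J_le_of {a b : ℤ} (ha : 1 ≤ a) (hb : b ≤ 8) {K : Subgroup G}
    (h : ∀ k : Rt, a ≤ k.val → (k.val : ℤ) ≤ b → S.R.X k ≤ K) : J S.XZ a b ≤ K := by
  refine J_le fun k h1 h2 => ?_
  obtain ⟨n, rfl⟩ := Int.eq_ofNat_of_zero_le (by omega : 0 ≤ k)
  have h3 : (((n : ℕ) : Rt)).val = n := ZMod.val_natCast_of_lt (by omega)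
  have h4 := h ((n : ℕ) : Rt) (by rw [h3]; exact h1) (by rw [h3]; exact h2)
  have e : S.XZ ((n : ℕ) : ℤ) = S.R.X ((n : ℕ) : Rt) := by
    show S.R.X (((n : ℕ) : ℤ) : ZMod (2 * 8)) = _
    rw [Int.cast_natCast]
  rw [e]
  exact h4

theorem conj_J_pos {m : G} {w : W} (hm : Maps S.R.X m (ac w)) {a b : ℤ} (ha : 1 ≤ a) (hb : b ≤ 8)
    (h : ∀ k : Rt, a ≤ k.val → (k.val : ℤ) ≤ b → ps (ac w k) = true) {u : G} (hu : u ∈ J S.XZ a b) :
    m * u * m⁻¹ ∈ J S.XZ 1 8 := by
  have h1 : J S.XZ a b ≤ (J S.XZ 1 8).comap (MulAut.conj m).toMonoidHom := by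
    refine J_le_of S ha hb fun k k1 k2 x hx => ?_
    show m * x * m⁻¹ ∈ J S.XZ 1 8
    have h2 := (hm k x).2 hx
    have h3 := ps_iff.1 (h k k1 k2)
    exact pos_le_J S (by omega) (by omega) h2
  exact h1 hu

theorem conj_J_neg {m : G} {w : W} (hm : Maps S.R.X m (ac w)) {a b : ℤ} (ha : 1 ≤ a) (hb : b ≤ 8)
    (h : ∀ k : Rt, a ≤ k.val → (k.val : ℤ) ≤ b → ps (ac w k) = false) {u : G} (hu : u ∈ J S.XZ a b) :
    m * u * m⁻¹ ∈ J S.XZ 9 16 := by
  have h1 : J S.XZ a b ≤ (J S.XZ 9 16).comap (MulAut.conj m).toMonoidHom := by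
    refine J_le_of S ha hb fun k k1 k2 x hx => ?_
    show m * x * m⁻¹ ∈ J S.XZ 9 16
    exact neg_le_J S (h k k1 k2) ((hm k x).2 hx)
  exact h1 hu

theorem maps_rep (w : W) : ∃ m, Maps S.R.X m (ac w) := by
  obtain ⟨c, x⟩ := w
  have h1 := S.rot_maps (c.val : ℤ)
  have hc : (((c.val : ℕ) : ℤ) : ZMod 8) = c := by rw [Int.cast_natCast]; exact ZMod.natCast_zmod_val c
  cases x with
  | false =>
    refine ⟨_, h1.congr fun k => ?_⟩
    show _ = dbl c + k
    rw [← dbl_int, hc]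
  | true =>
    refine ⟨_, (h1.mul (S.rot_maps (-5 : ℤ))).mul S.n1_maps |>.congr fun k => ?_⟩
    show ((2 * (c.val : ℤ) : ℤ) : Rt) + (((2 * (-5 : ℤ) : ℤ) : Rt) + (10 - k)) = dbl c - k
    rw [← dbl_int, hc]
    push_cast
    ring

/-- **octagonal root groups of `²F₄(q)`** -/
def ofFull (hopp : ∀ y, y ∈ J S.XZ 1 8 → y ∈ J S.XZ 9 16 → y = 1) : OD G where
  X := S.R.X
  U := J S.XZ 1 8
  V j := if j = 0 then J S.XZ 2 8 else J S.XZ 1 7
  X_le_U k hk := by
    have := ps_iff.1 hk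
    exact pos_le_J S (by omega) (by omega)
  U_le K h := J_le_of S le_rfl le_rfl fun k h1 h2 => h k (ps_iff.2 ⟨by omega, by omega⟩)
  X_le_V j k hk := by
    fin_cases j
    · simp only [nr] at hk
      have h1 : 2 ≤ k.val ∧ k.val ≤ 8 := by simpa using hk
      exact pos_le_J S (by omega) (by omega)
    · simp only [nr] at hk
      have h1 : 1 ≤ k.val ∧ k.val ≤ 7 := by simpa using hk
      exact pos_le_J S (by omega) (by omega)
  V_le j K h := by
    fin_cases j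
    · refine J_le_of S (by norm_num) le_rfl fun k h1 h2 => h k ?_
      have : 2 ≤ k.val ∧ k.val ≤ 8 := ⟨by omega, by omega⟩
      simpa [nr] using this
    · refine J_le_of S le_rfl (by norm_num) fun k h1 h2 => h k ?_
      have : 1 ≤ k.val ∧ k.val ≤ 7 := ⟨by omega, by omega⟩
      simpa [nr] using this
  not_V j k hk x hx hxV := by
    have hU : x ∈ J S.XZ 1 8 := by
      fin_cases j
      · exact J_mono (by norm_num) le_rfl hxV
      · exact J_mono le_rfl (by norm_num) hxV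
    by_cases hp : ps k = true
    · rcases ps_cases j k hp with h1 | h1
      · subst h1
        fin_cases j
        · exact S.zsys8.inter 1 x (by rw [← xz_val] at hx; exact hx) hxV
        · exact S.zsys8.inter' (k := 8) (by rw [← xz_val] at hx; exact hx) hxV
      · rw [h1] at hk
        exact absurd hk (by simp)
    · exact hopp x hU (neg_le_J S (by simpa using hp) hx)
  not_U k hk x hx hxU := hopp x hxU (neg_le_J S hk hx)
  ne k := (S.R.X k).bot_or_exists_ne_one.resolve_left (S.R.ne_bot k)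
  fac j u hu := by
    fin_cases j
    · obtain ⟨x, hx, v, hv, e⟩ := S.zsys8.split_ll (by norm_num) (by norm_num) hu
      have h1 : S.XZ 1 = S.R.X 1 := xz_val S 1
      rw [h1] at hx
      exact ⟨x, hx, v, hv, e⟩
    · obtain ⟨x, hx, v, hv, e⟩ := S.zsys8.split_rl (by norm_num) (by norm_num) hu
      have h1 : S.XZ 8 = S.R.X 8 := xz_val S 8
      rw [h1] at hx
      exact ⟨x, hx, v, hv, e⟩
  V_norm j u hu v hv := by
    fin_cases j
    · exact S.zsys8.conj_J (a := 2) (b := 8) (c := 1) (d := 8) (by norm_num) (by norm_num) (by norm_num) hu hv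
    · exact S.zsys8.conj_J (a := 1) (b := 7) (c := 1) (d := 8) (by norm_num) (by norm_num) (by norm_num) hu hv
  cut j w m hm hw u hu hu' := by
    have hmi : Maps S.R.X m⁻¹ (ac (iw w)) := Maps.inv hm fun k => ac_iw w k
    fin_cases j
    · obtain ⟨a, ha1, ha2⟩ := cut0 w hw
      obtain ⟨p, hp, q, hq, rfl⟩ := S.zsys8.split (a := 1) (b := 8) (c := (a.val : ℤ) + 2) (by omega) (by omega)
        (by norm_num) hu
      have h1 : m⁻¹ * q * m ∈ J S.XZ 1 8 := by
        have := conj_J_pos S hmi (a := (a.val : ℤ) + 2) (b := 8) (by omega) le_rfl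
          (fun k k1 k2 => ha2 k (by omega) (by omega)) hq
        rwa [inv_inv] at this
      have h2 : m⁻¹ * p * m ∈ J S.XZ 9 16 := by
        have := conj_J_neg S hmi (a := 1) (b := (a.val : ℤ) + 2 - 1) le_rfl (by omega)
          (fun k k1 k2 => ha1 k (by omega) (by omega)) hp
        rwa [inv_inv] at this
      have h3 : m⁻¹ * p * m ∈ J S.XZ 1 8 := by
        have e : m⁻¹ * p * m = (m⁻¹ * (p * q) * m) * (m⁻¹ * q * m)⁻¹ := by group
        rw [e]
        exact mul_mem hu' (inv_mem h1)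
      have h4 := hopp _ h3 h2
      have h5 : p = 1 := by
        have e : p = m * (m⁻¹ * p * m) * m⁻¹ := by group
        rw [e, h4]; group
      rw [h5, one_mul]
      exact J_mono (by omega) le_rfl hq
    · obtain ⟨a, ha1, ha2⟩ := cut1 w hw
      obtain ⟨p, hp, q, hq, rfl⟩ := S.zsys8.split (a := 1) (b := 8) (c := (a.val : ℤ) + 1) (by omega) (by omega)
        (by norm_num) hu
      have h1 : m⁻¹ * p * m ∈ J S.XZ 1 8 := by
        have := conj_J_pos S hmi (a := 1) (b := (a.val : ℤ) + 1 - 1) le_rfl (by omega)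
          (fun k k1 k2 => ha1 k (by omega) (by omega)) hp
        rwa [inv_inv] at this
      have h2 : m⁻¹ * q * m ∈ J S.XZ 9 16 := by
        have := conj_J_neg S hmi (a := (a.val : ℤ) + 1) (b := 8) (by omega) le_rfl
          (fun k k1 k2 => ha2 k (by omega) (by omega)) hq
        rwa [inv_inv] at this
      have h3 : m⁻¹ * q * m ∈ J S.XZ 1 8 := by
        have e : m⁻¹ * q * m = (m⁻¹ * p * m)⁻¹ * (m⁻¹ * (p * q) * m) := by group
        rw [e]
        exact mul_mem (inv_mem h1) hu'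
      have h4 := hopp _ h3 h2
      have h5 : q = 1 := by
        have e : q = m * (m⁻¹ * q * m) * m⁻¹ := by group
        rw [e, h4]; group
      rw [h5, mul_one]
      exact J_mono le_rfl (by omega) hp
  opp w m hm hw u hu hu' := by
    have h1 := conj_J_neg S hm (a := 1) (b := 8) le_rfl le_rfl
      (fun k k1 k2 => hw k (ps_iff.2 ⟨by omega, by omega⟩)) hu
    have h2 := hopp _ hu' h1
    have e : u = m⁻¹ * (m * u * m⁻¹) * m := by group
    rw [e, h2]; group
  bru g := by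
    obtain ⟨b, hb, t, ht, w, ⟨c, hc⟩, b', hb', e⟩ := S.bruhatE g
    rcases hc with hc | hc
    · refine ⟨((c : ZMod 8), false), b, hb, t * w, (Maps.mul ht hc).congr fun k => ?_, b', hb', by rw [e]; group⟩
      show ((2 * c : ℤ) : Rt) + k = dbl (c : ZMod 8) + k
      rw [dbl_int]
    · refine ⟨((c : ZMod 8), true), b, hb, t * w, (Maps.mul ht hc).congr fun k => ?_, b', hb', by rw [e]; group⟩
      show ((2 * c : ℤ) : Rt) - k = dbl (c : ZMod 8) - k
      rw [dbl_int]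
  rep w := maps_rep S w
  mu k u hu hu1 := by
    obtain ⟨v, hv, v', hv', h⟩ := S.R.mu k u hu hu1
    have h8 : ((8 : ℕ) : ZMod (2 * 8)) = 8 := by decide
    rw [h8] at hv hv' h
    refine ⟨v, hv, v', hv', fun l x => ?_⟩
    have e : ∀ k l : Rt, ac (rf k) l = 2 * k + 8 - l := by decide
    rw [e]
    exact h l x
  gen K h := by
    rw [eq_top_iff, ← S.R.gen]
    exact iSup_le h

end

section model

open Cfsg.Lie Cfsg.Agent.ChevalleyStructure.TwF4.Rel Cfsg.Agent.ChevalleyStructure.TwF4.Fix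
open Cfsg.Agent.ChevalleyStructure.TwF4.Groups Cfsg.Agent.ChevalleyStructure.TwF4.RankOne
open Cfsg.Agent.ChevalleyStructure.TwF4.Twisted Cfsg.Agent.ChevalleyStructure.TwF4.TwistedFix
open Cfsg.Agent.ChevalleyStructure.TwF4.BN
open Cfsg.Agent.Octagon.Pkg Cfsg.Agent.Octagon.KRel Cfsg.Agent.Octagon.KSys Cfsg.Agent.Octagon.KPar
open Cfsg.Agent.KFacts.TwF4.Inst
open Cfsg.Agent.Schreier.TwFFour (U0 B0 node1 node2 xa_U xb_U)

variable {K : Type*} [Field K] [CharP K 2] {m : ℕ} {φ : K →+* K}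

theorem XX_neg {e : ℕ} (k : ℕ) (h1 : 9 ≤ k) (h2 : k ≤ 16) :
    XX K e ((k : ℕ) : ZMod (2 * 8)) ≤ (GA K negB).comap (twistedF4 K e).subtype := by
  intro x hx
  have h0 : Cfsg.Agent.Octagon.KSys.rep ((k : ℕ) : ZMod (2 * 8)) = k := by interval_cases k <;> decide
  have hx' : (x : GL chevF4.Idx K) ∈ GA K (clsB (Cfsg.Agent.Octagon.KSys.rep ((k : ℕ) : ZMod (2 * 8)))) := hx
  rw [h0] at hx'
  exact neg_le_neg' (cls_neg (by omega)) hx'

/-- `U ∩ U⁻ = 1` -/
theorem opp [Fintype K] (hK : Fintype.card K = 2 ^ (2 * m + 1)) (hφ : Rln φ (2 ^ m)) :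
    ∀ y, y ∈ J (full hK hφ).XZ 1 8 → y ∈ J (full hK hφ).XZ 9 16 → y = 1 := by
  intro x h1 h2
  have k1 : J (full hK hφ).XZ 1 8 ≤ Cfsg.Agent.Schreier.TwFFour.U0 K (2 ^ m) := by
    refine J_le fun k h3 h4 => ?_
    obtain ⟨n, rfl⟩ := Int.eq_ofNat_of_zero_le (by omega : 0 ≤ k)
    exact XX_pos n (by exact_mod_cast h3) (by exact_mod_cast h4)
  have k2 : J (full hK hφ).XZ 9 16 ≤ (GA K negB).comap (twistedF4 K (2 ^ m)).subtype := by
    refine J_le fun k h3 h4 => ?_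
    obtain ⟨n, rfl⟩ := Int.eq_ofNat_of_zero_le (by omega : 0 ≤ k)
    exact XX_neg n (by exact_mod_cast h3) (by exact_mod_cast h4)
  exact Subtype.ext (borel_inf_negB _ (U_le_borel (k1 h1)) (k2 h2))

end model

end Cfsg.Agent.H564.EPF
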