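import Cfsg.Agent.H564.EPF.Dih
import Cfsg.Agent.H284.EP.Basic
import Cfsg.Agent.TitsThree.RankTwoZ

/-!
# Octagonal root groups, abstract form (helper564, S3499)

`OD G` : the root groups `X k`, `k : ZMod 16`, of a group of type `²F₄`; `U = ⟨X_1, …, X_8⟩`, `V 0 = ⟨X_2, …, X_8⟩`,
`V 1 = ⟨X_1, …, X_7⟩`.  `VV J`, `P J = N(VV J)` for `J ⊆ Fin 2`; `mem_P` : the double cosets in `P J`.
-/

set_option autoImplicit false
set_option linter.unusedSectionVars false

namespace Cfsg.Agent.H564.EPF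

open Cfsg.Agent.H284 Cfsg.Agent.TitsThree.RankTwoZ

universe u

/-- Octagonal root groups. -/
structure OD (G : Type u) [Group G] where
  X : Rt → Subgroup G
  U : Subgroup G
  V : Fin 2 → Subgroup G
  X_le_U : ∀ k, ps k = true → X k ≤ U
  U_le : ∀ K : Subgroup G, (∀ k, ps k = true → X k ≤ K) → U ≤ K
  X_le_V : ∀ j k, nr j k = true → X k ≤ V j
  V_le : ∀ (j : Fin 2) (K : Subgroup G), (∀ k, nr j k = true → X k ≤ K) → V j ≤ K
  not_V : ∀ j k, nr j k = false → ∀ x ∈ X k, x ∈ V j → x = 1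
  not_U : ∀ k, ps k = false → ∀ x ∈ X k, x ∈ U → x = 1
  ne : ∀ k, ∃ x ∈ X k, x ≠ 1
  fac : ∀ j, ∀ u ∈ U, ∃ x ∈ X (sr j), ∃ v ∈ V j, u = x * v
  V_norm : ∀ j, ∀ u ∈ U, ∀ v ∈ V j, u * v * u⁻¹ ∈ V j
  cut : ∀ (j : Fin 2) (w : W) (m : G), Maps X m (ac w) → ps (ac (iw w) (sr j)) = false →
    ∀ u ∈ U, m⁻¹ * u * m ∈ U → u ∈ V j
  opp : ∀ (w : W) (m : G), Maps X m (ac w) → (∀ k, ps k = true → ps (ac w k) = false) →
    ∀ u ∈ U, m * u * m⁻¹ ∈ U → u = 1
  bru : ∀ g, ∃ w : W, ∃ b ∈ U, ∃ m, Maps X m (ac w) ∧ ∃ b' ∈ U, g = b * m * b'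
  rep : ∀ w : W, ∃ m, Maps X m (ac w)
  mu : ∀ k, ∀ u ∈ X k, u ≠ 1 → ∃ v ∈ X (k + 8), ∃ v' ∈ X (k + 8), Maps X (v * u * v') (ac (rf k))
  gen : ∀ K : Subgroup G, (∀ k, X k ≤ K) → K = ⊤

theorem mem_nm {G : Type u} [Group G] [Finite G] {K : Subgroup G} {x : G} (h : ∀ a ∈ K, x * a * x⁻¹ ∈ K) :
    x ∈ Subgroup.normalizer (K : Set G) := by
  have h1 : cj x K ≤ K := by
    rintro _ ⟨a, ha, rfl⟩
    exact h a ha
  have h2 : cj x K = K := Subgroup.eq_of_le_of_card_ge h1 (by rw [card_cj])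
  rw [Subgroup.mem_normalizer_iff]
  intro a
  refine ⟨h a, fun h3 => ?_⟩
  rw [← h2, mem_cj] at h3
  have e : x⁻¹ * (x * a * x⁻¹) * x = a := by group
  rwa [e] at h3

theorem cj_nm {G : Type u} [Group G] {K : Subgroup G} {x : G} : x ∈ Subgroup.normalizer (K : Set G) ↔ cj x K = K := by
  rw [Subgroup.mem_normalizer_iff]
  constructor
  · intro h
    ext a
    rw [mem_cj, h (x⁻¹ * a * x)]
    have e : x * (x⁻¹ * a * x) * x⁻¹ = a := by group
    rw [e]
  · intro h a
    constructor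
    · intro h1
      rw [← h]
      exact conj_mem_cj h1
    · intro h1
      rw [← h, mem_cj] at h1
      have e : x⁻¹ * (x * a * x⁻¹) * x = a := by group
      rwa [e] at h1

namespace OD

variable {G : Type u} [Group G] (D : OD G)

/-- `m` acts on the root groups as `w` -/
def Mp (m : G) (w : W) : Prop := Maps D.X m (ac w)

variable {D}

theorem Mp.mul {m m' : G} {w w' : W} (h : D.Mp m w) (h' : D.Mp m' w') : D.Mp (m * m') (mw w w') :=
  (Maps.mul h h').congr fun k => (ac_mw w w' k).symm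

theorem Mp.inv {m : G} {w : W} (h : D.Mp m w) : D.Mp m⁻¹ (iw w) := Maps.inv h fun k => ac_iw w k

theorem Mp.one : D.Mp 1 (0, false) := Maps.one.congr fun k => (ac_one k).symm

theorem Mp.conj {m : G} {w : W} (h : D.Mp m w) {k : Rt} {x : G} (hx : x ∈ D.X k) : m * x * m⁻¹ ∈ D.X (ac w k) :=
  (h k x).2 hx

theorem Mp.conj_inv {m : G} {w : W} (h : D.Mp m w) {k : Rt} {x : G} (hx : x ∈ D.X k) :
    m⁻¹ * x * m ∈ D.X (ac (iw w) k) := by
  have := h.inv.conj hx
  rwa [inv_inv] at this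

/-- `X_{w k} ≤ K` if `X_k ≤ K ^ m` -/
theorem Mp.le {m : G} {w : W} (h : D.Mp m w) {k : Rt} {K : Subgroup G} (hK : D.X k ≤ cj m K) :
    D.X (ac (iw w) k) ≤ K := by
  intro x hx
  have h1 : m * x * m⁻¹ ∈ D.X k := by
    have := h.conj hx
    rwa [ac_iw] at this
  have h2 := hK h1
  rw [mem_cj] at h2
  have e : m⁻¹ * (m * x * m⁻¹) * m = x := by group
  rwa [e] at h2

theorem Mp.le' {m : G} {w : W} (h : D.Mp m w) {k l : Rt} (hl : ac w k = l) {K : Subgroup G} (hK : D.X k ≤ K) :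
    D.X l ≤ cj m K := by
  subst hl
  intro x hx
  rw [mem_cj]
  apply hK
  have := h.conj_inv hx
  rwa [iw_ac] at this

theorem Mp.V {m : G} {w : W} (h : D.Mp m w) {j : Fin 2} (hw : w = (0, false) ∨ w = sp j) :
    ∀ v ∈ D.V j, m * v * m⁻¹ ∈ D.V j := by
  have h1 : D.V j ≤ (D.V j).comap (MulAut.conj m).toMonoidHom := by
    refine D.V_le j _ fun k hk x hx => ?_
    show m * x * m⁻¹ ∈ D.V j
    refine D.X_le_V j (ac w k) ?_ (h.conj hx)
    rcases hw with rfl | rfl
    · rw [ac_one]; exact hk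
    · exact sp_nr j k hk
  intro v hv
  exact h1 hv

theorem Mp.U {m : G} (h : D.Mp m (0, false)) : ∀ v ∈ D.U, m * v * m⁻¹ ∈ D.U := by
  have h1 : D.U ≤ (D.U).comap (MulAut.conj m).toMonoidHom := by
    refine D.U_le _ fun k hk x hx => ?_
    show m * x * m⁻¹ ∈ D.U
    refine D.X_le_U (ac (0, false) k) ?_ (h.conj hx)
    rw [ac_one]; exact hk
  intro v hv
  exact h1 hv

theorem V_le_U (j : Fin 2) : D.V j ≤ D.U := D.V_le j _ fun k hk => D.X_le_U k (nr_ps j k hk)

variable [Finite G]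

theorem U_le_NV (j : Fin 2) : D.U ≤ Subgroup.normalizer (D.V j : Set G) := fun u hu => mem_nm (D.V_norm j u hu)

theorem mem_NV {b b' m : G} {w : W} (hb : b ∈ D.U) (hb' : b' ∈ D.U) (hm : D.Mp m w) (j : Fin 2) :
    b * m * b' ∈ Subgroup.normalizer (D.V j : Set G) ↔ w = (0, false) ∨ w = sp j := by
  have e : b * m * b' ∈ Subgroup.normalizer (D.V j : Set G) ↔ m ∈ Subgroup.normalizer (D.V j : Set G) := by
    constructor
    · intro h
      have e2 : m = b⁻¹ * (b * m * b') * b'⁻¹ := by group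
      rw [e2]
      exact mul_mem (mul_mem (inv_mem (U_le_NV j hb)) h) (inv_mem (U_le_NV j hb'))
    · intro h
      exact mul_mem (mul_mem (U_le_NV j hb) h) (U_le_NV j hb')
  rw [e]
  constructor
  · intro h
    apply stab_iff j w
    intro k hk
    by_contra hcon
    obtain ⟨x, hx, hx1⟩ := D.ne k
    have h1 := (Subgroup.mem_normalizer_iff.1 h x).1 (D.X_le_V j k hk hx)
    have h2 := D.not_V j _ (by simpa using hcon) _ (hm.conj hx) h1
    apply hx1
    have e2 : x = m⁻¹ * (m * x * m⁻¹) * m := by group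
    rw [e2, h2]
    group
  · intro h
    exact mem_nm (hm.V h)

theorem mem_NU {b b' m : G} {w : W} (hb : b ∈ D.U) (hb' : b' ∈ D.U) (hm : D.Mp m w) :
    b * m * b' ∈ Subgroup.normalizer (D.U : Set G) ↔ w = (0, false) := by
  have hU : D.U ≤ Subgroup.normalizer (D.U : Set G) := Subgroup.le_normalizer
  have e : b * m * b' ∈ Subgroup.normalizer (D.U : Set G) ↔ m ∈ Subgroup.normalizer (D.U : Set G) := by
    constructor
    · intro h
      have e2 : m = b⁻¹ * (b * m * b') * b'⁻¹ := by group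
      rw [e2]
      exact mul_mem (mul_mem (inv_mem (hU hb)) h) (inv_mem (hU hb'))
    · intro h
      exact mul_mem (mul_mem (hU hb) h) (hU hb')
  rw [e]
  constructor
  · intro h
    apply stab_U w
    intro k hk
    by_contra hcon
    obtain ⟨x, hx, hx1⟩ := D.ne k
    have h1 := (Subgroup.mem_normalizer_iff.1 h x).1 (D.X_le_U k hk hx)
    have h2 := D.not_U _ (by simpa using hcon) _ (hm.conj hx) h1
    apply hx1
    have e2 : x = m⁻¹ * (m * x * m⁻¹) * m := by group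
    rw [e2, h2]
    group
  · rintro rfl
    exact mem_nm hm.U

theorem NU_le_NV (j : Fin 2) : Subgroup.normalizer (D.U : Set G) ≤ Subgroup.normalizer (D.V j : Set G) := by
  intro g hg
  obtain ⟨w, b, hb, m, hm, b', hb', rfl⟩ := D.bru g
  rw [mem_NV hb hb' hm]
  exact Or.inl ((mem_NU hb hb' hm).1 hg)

/-- `⟨U, n_0, n_1⟩ = G` -/
theorem eq_top {K : Subgroup G} (hU : D.U ≤ K) {m0 m1 : G} (h0 : D.Mp m0 (sp 0)) (h1 : D.Mp m1 (sp 1)) (hm0 : m0 ∈ K)
    (hm1 : m1 ∈ K) : K = ⊤ := by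
  have key : ∀ c : ℕ, ∃ m ∈ K, D.Mp m ((c : ZMod 8), false) := by
    intro c
    induction c with
    | zero => exact ⟨1, one_mem _, by simpa using (Mp.one (D := D))⟩
    | succ c ih =>
      obtain ⟨m, hm, hM⟩ := ih
      refine ⟨m0 * m1 * m, mul_mem (mul_mem hm0 hm1) hm, ?_⟩
      have h2 := (h0.mul h1).mul hM
      have e : mw (mw (sp 0) (sp 1)) ((c : ZMod 8), false) = (((c + 1 : ℕ) : ZMod 8), false) := by
        have e1 : ∀ a : ZMod 8, mw (mw (sp 0) (sp 1)) (a, false) = (a + 1, false) := by decide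
        rw [e1]
        push_cast
        rfl
      rwa [e] at h2
  refine D.gen K fun k => ?_
  -- every root is `2 c + 1` or `2 c + 8`
  have hc : ∀ k : Rt, ∃ c : ZMod 8, ac (c, false) 1 = k ∨ ac (c, false) 8 = k := by decide
  obtain ⟨c, hk⟩ := hc k
  obtain ⟨m, hm, hM⟩ := key c.val
  have e : ((c.val : ℕ) : ZMod 8) = c := ZMod.natCast_zmod_val c
  rw [e] at hM
  rcases hk with hk | hk
  · have h2 := hM.le' hk ((D.X_le_U 1 (by decide)).trans hU)
    rwa [cj_eq_self hm] at h2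
  · have h2 := hM.le' hk ((D.X_le_U 8 (by decide)).trans hU)
    rwa [cj_eq_self hm] at h2

/-! ### the parabolic subgroups -/

open Classical in
variable (D) in
/-- the unipotent radicals -/
noncomputable def VV (J : Set (Fin 2)) : Subgroup G :=
  if J = Set.univ then ⊥ else if (0 : Fin 2) ∈ J then D.V 0 else if (1 : Fin 2) ∈ J then D.V 1 else D.U

omit [Finite G] in
theorem cases4 (J : Set (Fin 2)) : J = ∅ ∨ (∃ j, J = {j}) ∨ J = Set.univ := by
  by_cases h0 : (0 : Fin 2) ∈ J <;> by_cases h1 : (1 : Fin 2) ∈ J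
  · right; right
    ext i
    fin_cases i <;> simp [h0, h1]
  · right; left
    refine ⟨0, ?_⟩
    ext i
    fin_cases i <;> simp [h0, h1]
  · right; left
    refine ⟨1, ?_⟩
    ext i
    fin_cases i <;> simp [h0, h1]
  · left
    ext i
    fin_cases i <;> simp [h0, h1]

theorem single_ne_univ (j : Fin 2) : ({j} : Set (Fin 2)) ≠ Set.univ := by
  intro h
  have h1 : (0 : Fin 2) ∈ ({j} : Set (Fin 2)) := by rw [h]; trivial
  have h2 : (1 : Fin 2) ∈ ({j} : Set (Fin 2)) := by rw [h]; trivial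
  rw [Set.mem_singleton_iff] at h1 h2
  rw [← h2] at h1
  exact absurd h1 (by decide)

omit [Finite G] in
theorem VV_univ : D.VV Set.univ = ⊥ := by simp [VV]

omit [Finite G] in
theorem VV_empty : D.VV ∅ = D.U := by
  have h : (∅ : Set (Fin 2)) ≠ Set.univ := Set.empty_ne_univ
  simp [VV, h]

omit [Finite G] in
theorem VV_single (j : Fin 2) : D.VV {j} = D.V j := by
  have h := single_ne_univ j
  fin_cases j
  · have h' : ({0} : Set (Fin 2)) ≠ Set.univ := h
    show D.VV ({0} : Set (Fin 2)) = D.V 0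
    simp [VV, h']
  · have h' : ({1} : Set (Fin 2)) ≠ Set.univ := h
    show D.VV ({1} : Set (Fin 2)) = D.V 1
    simp [VV, h']

variable (D) in
/-- the parabolic subgroups -/
noncomputable def P (J : Set (Fin 2)) : Subgroup G := Subgroup.normalizer (D.VV J : Set G)

/-- the parabolic subgroups of `W` -/
def WJ (J : Set (Fin 2)) (w : W) : Prop := w = (0, false) ∨ J = Set.univ ∨ ∃ j ∈ J, w = sp j

omit [Finite G] in
theorem P_univ : D.P Set.univ = ⊤ := by
  unfold P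
  rw [VV_univ, eq_top_iff]
  intro g _
  rw [Subgroup.mem_normalizer_iff]
  intro x
  rw [Subgroup.mem_bot, Subgroup.mem_bot, conj_eq_one_iff]

omit [Finite G] in
theorem P_empty : D.P ∅ = Subgroup.normalizer (D.U : Set G) := by
  unfold P
  rw [VV_empty]

omit [Finite G] in
theorem P_single (j : Fin 2) : D.P {j} = Subgroup.normalizer (D.V j : Set G) := by
  unfold P
  rw [VV_single]

theorem mem_P {J : Set (Fin 2)} {b b' m : G} {w : W} (hb : b ∈ D.U) (hb' : b' ∈ D.U) (hm : D.Mp m w) :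
    b * m * b' ∈ D.P J ↔ WJ J w := by
  rcases cases4 J with rfl | ⟨j, rfl⟩ | rfl
  · rw [P_empty, mem_NU hb hb' hm]
    constructor
    · exact Or.inl
    · rintro (h | h | ⟨j, hj, -⟩)
      · exact h
      · exact absurd h Set.empty_ne_univ
      · exact absurd hj (Set.notMem_empty j)
  · rw [P_single, mem_NV hb hb' hm]
    constructor
    · rintro (h | h)
      · exact Or.inl h
      · exact Or.inr (Or.inr ⟨j, rfl, h⟩)
    · rintro (h | h | ⟨i, hi, h⟩)
      · exact Or.inl h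
      · exact absurd h (single_ne_univ j)
      · rw [Set.mem_singleton_iff] at hi
        subst hi
        exact Or.inr h
  · rw [P_univ]
    exact ⟨fun _ => Or.inr (Or.inl rfl), fun _ => trivial⟩

theorem mem_P' {J : Set (Fin 2)} {m : G} {w : W} (hm : D.Mp m w) : m ∈ D.P J ↔ WJ J w := by
  have := mem_P (D := D) (J := J) (one_mem _) (one_mem _) hm
  rwa [one_mul, mul_one] at this

theorem U_le_P (J : Set (Fin 2)) : D.U ≤ D.P J := by
  intro u hu
  have := (mem_P (D := D) (J := J) hu (one_mem _) Mp.one).2 (Or.inl rfl)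
  rwa [mul_one, mul_one] at this

theorem WJ_mono {J L : Set (Fin 2)} (h : J ⊆ L) {w : W} (hw : WJ J w) : WJ L w := by
  rcases hw with h1 | h1 | ⟨j, hj, h1⟩
  · exact Or.inl h1
  · exact Or.inr (Or.inl (Set.eq_univ_of_univ_subset (h1 ▸ h)))
  · exact Or.inr (Or.inr ⟨j, h hj, h1⟩)

theorem P_mono {J L : Set (Fin 2)} (h : J ⊆ L) : D.P J ≤ D.P L := by
  intro g hg
  obtain ⟨w, b, hb, m, hm, b', hb', rfl⟩ := D.bru g
  exact (mem_P hb hb' hm).2 (WJ_mono h ((mem_P hb hb' hm).1 hg))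

theorem P_le_iff {J L : Set (Fin 2)} : D.P J ≤ D.P L ↔ J ⊆ L := by
  refine ⟨fun h j hj => ?_, P_mono⟩
  obtain ⟨m, hm⟩ := D.rep (sp j)
  have h1 := h ((mem_P' (D := D) (J := J) hm).2 (Or.inr (Or.inr ⟨j, hj, rfl⟩)))
  rcases (mem_P' hm).1 h1 with h2 | h2 | ⟨l, hl, h2⟩
  · have h3 : ∀ i : Fin 2, sp i ≠ (0, false) := by decide
    exact absurd h2 (h3 j)
  · rw [h2]; trivial
  · have h3 : ∀ i k : Fin 2, sp i = sp k → i = k := by decide
    rw [h3 j l h2]
    exact hl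

theorem V_anti {J L : Set (Fin 2)} (h : J ⊆ L) : D.VV L ≤ D.VV J := by
  rcases cases4 L with rfl | ⟨l, rfl⟩ | rfl
  · rw [Set.subset_empty_iff.1 h]
  · rcases cases4 J with rfl | ⟨j, rfl⟩ | rfl
    · rw [VV_empty, VV_single]
      exact V_le_U l
    · rw [Set.singleton_subset_singleton.1 h]
    · exact absurd (Set.eq_univ_of_univ_subset h) (single_ne_univ l)
  · rw [VV_univ]
    exact bot_le

theorem VV_le_U (J : Set (Fin 2)) : D.VV J ≤ D.U := by
  rw [← VV_empty]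
  exact V_anti (Set.empty_subset J)

theorem VV_ne_bot {J : Set (Fin 2)} (h : J ≠ Set.univ) : D.VV J ≠ ⊥ := by
  rcases cases4 J with rfl | ⟨j, rfl⟩ | rfl
  · rw [VV_empty]
    intro h1
    obtain ⟨x, hx, hx1⟩ := D.ne 1
    have h2 := D.X_le_U 1 (by decide) hx
    rw [h1] at h2
    exact hx1 (Subgroup.mem_bot.1 h2)
  · rw [VV_single]
    intro h1
    obtain ⟨x, hx, hx1⟩ := D.ne 2
    have h3 : ∀ i : Fin 2, nr i 2 = true := by decide
    have h2 := D.X_le_V j 2 (h3 j) hx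
    rw [h1] at h2
    exact hx1 (Subgroup.mem_bot.1 h2)
  · exact absurd rfl h

end OD

end Cfsg.Agent.H564.EPF
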