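import Cfsg.Agent.H564.EPF.BT
import Cfsg.Agent.H737.EPO.Res

/-!
# The parabolic system of octagonal root groups (helper564, S3499)

* `le_P`, `ov` : overgroups of `U`, of `B`; `dec`; `V_max`;
* `exists_PJ` : proper overgroups of conjugates of `V_J`; `exists_canon`, `canon`;
* `psys : PSys G 2 (Fin 2)`, `rk : Rk psys`.
-/

set_option autoImplicit false
set_option linter.unusedSectionVars false

namespace Cfsg.Agent.H564.EPF

open Cfsg.Agent.H284 Cfsg.Agent.TitsThree.RankTwoZ Cfsg.Agent.H737.EPO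

universe u

namespace OD

variable {G : Type u} [Group G] {D : OD G} [Finite G]

omit [Finite G] in
theorem refl_mem {K : Subgroup G} {k : Rt} (h : D.X k ≤ K) (h' : D.X (k + 8) ≤ K) : ∃ m ∈ K, D.Mp m (rf k) := by
  obtain ⟨u, hu, hu1⟩ := D.ne k
  obtain ⟨v, hv, v', hv', hm⟩ := D.mu k u hu hu1
  exact ⟨_, mul_mem (mul_mem (h' hv) (h hu)) (h' hv'), hm⟩

omit [Finite G] in
theorem neg_le {K : Subgroup G} (hU : D.U ≤ K) {m : G} {w : W} (hm : D.Mp m w) (hmK : m ∈ K) {j : Fin 2}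
    (hd : ps (ac (iw w) (sr j)) = false) : D.X (sr j + 8) ≤ K := by
  have h1 : ps (ac (iw w) (sr j + 8)) = true := by rw [ac_opp, ps_opp, hd]; rfl
  have h2 := hm.le' (k := ac (iw w) (sr j + 8)) (l := sr j + 8) (ac_iw w _) ((D.X_le_U _ h1).trans hU)
  rwa [cj_eq_self hmK] at h2

/-- overgroups of `U` -/
theorem le_P {K : Subgroup G} (hU : D.U ≤ K) : K ≤ D.P {i | D.X (sr i + 8) ≤ K} := by
  intro k hk
  obtain ⟨w, b, hb, m, hm, b', hb', rfl⟩ := D.bru k
  rw [mem_P hb hb' hm]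
  have hmK : m ∈ K := by
    have e : m = b⁻¹ * (b * m * b') * b'⁻¹ := by group
    rw [e]
    exact mul_mem (mul_mem (inv_mem (hU hb)) hk) (inv_mem (hU hb'))
  by_cases hw : w = (0, false)
  · exact Or.inl hw
  obtain ⟨j, hj⟩ := e3 w hw
  have h1 := neg_le hU hm hmK hj
  obtain ⟨n, hn, hnM⟩ := refl_mem ((D.X_le_U _ (sr_ps j)).trans hU) h1
  rw [rf_sr] at hnM
  by_cases hall : ∀ i : Fin 2, i ≠ j → ps (ac (iw (mw (sp j) w)) (sr i)) = true
  · exact Or.inr (Or.inr ⟨j, h1, e4 j w hj hall⟩)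
  · push Not at hall
    obtain ⟨i, hij, hi⟩ := hall
    have h2 := neg_le hU (hnM.mul hm) (mul_mem hn hmK) (j := i) (by simpa using hi)
    right; left
    ext l
    simp only [Set.mem_setOf_eq, Set.mem_univ, iff_true]
    by_cases hl : l = j
    · rw [hl]; exact h1
    · rw [← fin2 i j l hij hl]; exact h2

theorem eq_top_of {K : Subgroup G} (hU : D.U ≤ K) (h : {i | D.X (sr i + 8) ≤ K} = Set.univ) : K = ⊤ := by
  have h1 : ∀ i, D.X (sr i + 8) ≤ K := fun i => by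
    have : i ∈ {i | D.X (sr i + 8) ≤ K} := by rw [h]; trivial
    exact this
  obtain ⟨m0, hm0, hM0⟩ := refl_mem ((D.X_le_U _ (sr_ps 0)).trans hU) (h1 0)
  obtain ⟨m1, hm1, hM1⟩ := refl_mem ((D.X_le_U _ (sr_ps 1)).trans hU) (h1 1)
  rw [rf_sr] at hM0 hM1
  exact eq_top hU hM0 hM1 hm0 hm1

/-- overgroups of `B` -/
theorem ov (L : Subgroup G) (hL : D.P ∅ ≤ L) : ∃ J, L = D.P J := by
  have hU : D.U ≤ L := (U_le_P ∅).trans hL
  refine ⟨{i | D.X (sr i + 8) ≤ L}, le_antisymm (le_P hU) ?_⟩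
  intro g hg
  obtain ⟨w, b, hb, m, hm, b', hb', rfl⟩ := D.bru g
  rcases (mem_P hb hb' hm).1 hg with h1 | h1 | ⟨j, hj, h1⟩
  · exact hL ((mem_P hb hb' hm).2 (Or.inl h1))
  · rw [eq_top_of hU h1]; trivial
  · obtain ⟨n, hn, hnM⟩ := refl_mem ((D.X_le_U _ (sr_ps j)).trans hU) hj
    rw [rf_sr] at hnM
    subst h1
    have h2 : n⁻¹ * m ∈ L := by
      apply hL
      rw [mem_P' (hnM.inv.mul hm)]
      have h3 : ∀ i : Fin 2, mw (iw (sp i)) (sp i) = (0, false) := by decide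
      exact Or.inl (h3 j)
    have e : m = n * (n⁻¹ * m) := by group
    rw [e]
    exact mul_mem (mul_mem (hU hb) (mul_mem hn h2)) (hU hb')

/-- negative roots in `P_J` -/
theorem neg_root {J : Set (Fin 2)} {k : Rt} (hk : D.X k ≤ D.P J) : ps k = true ∨ J = Set.univ ∨ ∃ j ∈ J, k = sr j + 8 := by
  by_cases h0 : ps k = true
  · exact Or.inl h0
  right
  have h1 : ps (k + 8) = true := by
    rw [ps_opp]
    simp at h0
    rw [h0]; rfl
  obtain ⟨m, hm, hM⟩ := refl_mem hk ((D.X_le_U _ h1).trans (U_le_P J))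
  rcases (mem_P' hM).1 hm with h2 | h2 | ⟨j, hj, h2⟩
  · exact absurd h2 (rf_ne_one k)
  · exact Or.inl h2
  · exact Or.inr ⟨j, hj, rf_sp j k h2 (by simpa using h0)⟩

/-- double cosets -/
theorem dec {J L : Set (Fin 2)} {g : G} (hV : D.VV J ≤ cj g (D.P L)) : ∃ a ∈ D.P J, ∃ b ∈ D.P L, g = a * b := by
  obtain ⟨w, b, hb, m, hm, b', hb', rfl⟩ := D.bru g
  have hX : ∀ k, D.X k ≤ D.VV J → D.X (ac (iw w) k) ≤ D.P L := by
    intro k hk
    refine Mp.le (D := D) hm ?_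
    have h1 : cj b⁻¹ (D.VV J) ≤ cj m (D.P L) := by
      have h2 := cj_mono (x := b⁻¹) hV
      have e : b⁻¹ * (b * m * b') = m * b' := by group
      rw [← cj_mul, e, cj_mul, cj_eq_self (U_le_P L hb')] at h2
      exact h2
    rw [cj_nm.1 (show b⁻¹ ∈ Subgroup.normalizer (D.VV J : Set G) from inv_mem (U_le_P J hb))] at h1
    exact hk.trans h1
  suffices h : ∃ w₁ w₂ : W, WJ J w₁ ∧ WJ L w₂ ∧ w = mw w₁ w₂ by
    obtain ⟨w₁, w₂, h1, h2, rfl⟩ := h
    obtain ⟨m₁, hm₁⟩ := D.rep w₁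
    have h3 : D.Mp (m₁⁻¹ * m) w₂ := by
      have := (Mp.inv (D := D) hm₁).mul hm
      rwa [iw_mw_cancel] at this
    refine ⟨b * m₁, mul_mem (U_le_P J hb) ((mem_P' (D := D) hm₁).2 h1), m₁⁻¹ * m * b',
      mul_mem ((mem_P' h3).2 h2) (U_le_P L hb'), by group⟩
  rcases cases4 J with rfl | ⟨j, rfl⟩ | rfl
  · have hX' : ∀ k, ps k = true → D.X (ac (iw w) k) ≤ D.P L := fun k hk => hX k (by rw [VV_empty]; exact D.X_le_U k hk)
    rcases cases4 L with rfl | ⟨l, rfl⟩ | rfl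
    · refine ⟨(0, false), w, Or.inl rfl, Or.inl (d1 w fun k hk => ?_), (one_mw w).symm⟩
      rcases neg_root (hX' k hk) with h1 | h1 | ⟨i, hi, -⟩
      · exact h1
      · exact absurd h1 Set.empty_ne_univ
      · exact absurd hi (Set.notMem_empty i)
    · refine ⟨(0, false), w, Or.inl rfl, ?_, (one_mw w).symm⟩
      have h0 : ∀ k, ps k = true → ps (ac (iw w) k) = true ∨ ac (iw w) k = sr l + 8 := by
        intro k hk
        rcases neg_root (hX' k hk) with h1 | h1 | ⟨i, hi, h1⟩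
        · exact Or.inl h1
        · exact absurd h1 (single_ne_univ l)
        · rw [Set.mem_singleton_iff] at hi
          subst hi
          exact Or.inr h1
      rcases d2 l w h0 with h1 | h1
      · exact Or.inl h1
      · exact Or.inr (Or.inr ⟨l, rfl, h1⟩)
    · exact ⟨(0, false), w, Or.inl rfl, Or.inr (Or.inl rfl), (one_mw w).symm⟩
  · have hX' : ∀ k, nr j k = true → D.X (ac (iw w) k) ≤ D.P L := fun k hk =>
      hX k (by rw [VV_single]; exact D.X_le_V j k hk)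
    rcases cases4 L with rfl | ⟨l, rfl⟩ | rfl
    · refine ⟨w, (0, false), ?_, Or.inl rfl, (mw_one w).symm⟩
      have h0 : ∀ k, nr j k = true → ps (ac (iw w) k) = true := by
        intro k hk
        rcases neg_root (hX' k hk) with h1 | h1 | ⟨i, hi, -⟩
        · exact h1
        · exact absurd h1 Set.empty_ne_univ
        · exact absurd hi (Set.notMem_empty i)
      rcases d3 j w h0 with h1 | h1
      · exact Or.inl h1
      · exact Or.inr (Or.inr ⟨j, rfl, h1⟩)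
    · have hs : ∀ i : Fin 2, WJ {i} (sp i) := fun i => Or.inr (Or.inr ⟨i, rfl, rfl⟩)
      have h0 : ∀ k, nr j k = true → ps (ac (iw w) k) = true ∨ ac (iw w) k = sr l + 8 := by
        intro k hk
        rcases neg_root (hX' k hk) with h1 | h1 | ⟨i, hi, h1⟩
        · exact Or.inl h1
        · exact absurd h1 (single_ne_univ l)
        · rw [Set.mem_singleton_iff] at hi
          subst hi
          exact Or.inr h1
      rcases d4 j l w h0 with h1 | h1 | h1 | h1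
      · exact ⟨(0, false), w, Or.inl rfl, Or.inl h1, (one_mw w).symm⟩
      · exact ⟨w, (0, false), h1 ▸ hs j, Or.inl rfl, (mw_one w).symm⟩
      · exact ⟨(0, false), w, Or.inl rfl, h1 ▸ hs l, (one_mw w).symm⟩
      · exact ⟨sp j, sp l, hs j, hs l, h1⟩
    · exact ⟨(0, false), w, Or.inl rfl, Or.inr (Or.inl rfl), (one_mw w).symm⟩
  · exact ⟨w, (0, false), Or.inr (Or.inl rfl), Or.inl rfl, (mw_one w).symm⟩

/-! ### `2`-subgroups -/

section two

variable (h2 : IsPGroup 2 D.U) (hs : ∀ S : Subgroup G, D.U ≤ S → IsPGroup 2 S → S = D.U)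

include h2 hs

theorem exists_le_cj {Q : Subgroup G} (hQ : IsPGroup 2 Q) : ∃ g, Q ≤ cj g D.U := by
  have : Fact (Nat.Prime 2) := ⟨Nat.prime_two⟩
  obtain ⟨S, hS⟩ := h2.exists_le_sylow
  obtain ⟨R, hR⟩ := hQ.exists_le_sylow
  obtain ⟨g, hg⟩ := MulAction.exists_smul_eq G S R
  refine ⟨g, ?_⟩
  rw [← hs _ hS S.isPGroup']
  have h1 : cj g (S : Subgroup G) = (R : Subgroup G) := by rw [← hg]; rfl
  rw [h1]
  exact hR

theorem le_U_of {K : Subgroup G} (hK : D.U ≤ Subgroup.normalizer (K : Set G)) (hK2 : IsPGroup 2 K) : K ≤ D.U := by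
  have h1 : IsPGroup 2 (D.U ⊔ K : Subgroup G) := IsPGroup.to_sup_of_normal_right' h2 hK2 hK
  rw [← hs _ le_sup_left h1]
  exact le_sup_right

theorem le_U_of' {K : Subgroup G} (hK : K ≤ Subgroup.normalizer (D.U : Set G)) (hK2 : IsPGroup 2 K) : K ≤ D.U := by
  have h1 : IsPGroup 2 (K ⊔ D.U : Subgroup G) := IsPGroup.to_sup_of_normal_right' hK2 h2 hK
  rw [← hs _ le_sup_right h1]
  exact le_sup_left

theorem mem_U_of {x c : G} (hx : x ∈ Subgroup.normalizer (D.U : Set G)) (hc : x ∈ cj c D.U) : x ∈ D.U := by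
  have h1 : IsPGroup 2 (Subgroup.zpowers x) := (h2.map _ : IsPGroup 2 (cj c D.U)).to_le ((Subgroup.zpowers_le).2 hc)
  exact le_U_of' h2 hs ((Subgroup.zpowers_le).2 hx) h1 (Subgroup.mem_zpowers x)

theorem V_max {J : Set (Fin 2)} {E : Subgroup G} (hE2 : IsPGroup 2 E)
    (hn : ∀ g ∈ D.P J, ∀ d ∈ E, g * d * g⁻¹ ∈ E) : E ≤ D.VV J := by
  have hEU : E ≤ D.U := le_U_of h2 hs (fun u hu => mem_nm (hn u (U_le_P J hu))) hE2
  rcases cases4 J with rfl | ⟨j, rfl⟩ | rfl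
  · rw [VV_empty]; exact hEU
  · rw [VV_single]
    obtain ⟨n, hn'⟩ := D.rep (sp j)
    intro d hd
    have h3 : ∀ i : Fin 2, ps (ac (iw (sp i)) (sr i)) = false := by decide
    refine D.cut j (sp j) n hn' (h3 j) d (hEU hd) (hEU ?_)
    have h4 := hn n⁻¹ (inv_mem ((mem_P' (D := D) hn').2 (Or.inr (Or.inr ⟨j, rfl, rfl⟩)))) d hd
    rwa [inv_inv] at h4
  · rw [VV_univ]
    obtain ⟨n, hn'⟩ := D.rep (4, false)
    intro d hd
    have h3 : ∀ k : Rt, ps k = true → ps (ac (4, false) k) = false := by decide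
    rw [Subgroup.mem_bot]
    exact D.opp _ n hn' h3 d (hEU hd) (hEU (hn n (by rw [P_univ]; trivial) d hd))

end two

/-! ### overgroups of unipotent radicals -/

theorem exists_PJ {K : Subgroup G} (hK : K ≠ ⊤) {J : Set (Fin 2)} (hJ : J ≠ Set.univ) {g : G}
    (hV : cj g (D.VV J) ≤ K) : ∃ (L : Set (Fin 2)) (g' : G), L ≠ Set.univ ∧ K ≤ cj g' (D.P L) ∧ cj g' (D.VV L) ≤ K := by
  by_cases ha : ∃ g', cj g' D.U ≤ K
  · obtain ⟨g', hg'⟩ := ha
    have hU : D.U ≤ cj g'⁻¹ K := by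
      have := cj_mono (x := g'⁻¹) hg'
      rwa [cj_inv_cj] at this
    refine ⟨{i | D.X (sr i + 8) ≤ cj g'⁻¹ K}, g', ?_, ?_, ?_⟩
    · intro h1
      apply hK
      have h2 := eq_top_of hU h1
      have h3 : cj g' (cj g'⁻¹ K) = cj g' ⊤ := by rw [h2]
      rw [cj_cj_inv] at h3
      rw [h3]
      exact Subgroup.map_top_of_surjective _ (MulAut.conj g').surjective
    · have := cj_mono (x := g') (le_P hU)
      rwa [cj_cj_inv] at this
    · exact (cj_mono (VV_le_U _)).trans hg'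
  · push Not at ha
    have hJ0 : ∃ j, J = {j} := by
      rcases cases4 J with rfl | h1 | rfl
      · rw [VV_empty] at hV
        exact absurd hV (ha g)
      · exact h1
      · exact absurd rfl hJ
    obtain ⟨j, rfl⟩ := hJ0
    rw [VV_single] at hV
    refine ⟨{j}, g, hJ, ?_, by rw [VV_single]; exact hV⟩
    set K' := cj g⁻¹ K with hK'
    have hV' : D.V j ≤ K' := by
      have := cj_mono (x := g⁻¹) hV
      rwa [cj_inv_cj] at this
    have ha' : ∀ g', ¬ cj g' D.U ≤ K' := by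
      intro g' h1
      apply ha (g * g')
      rw [cj_mul]
      have := cj_mono (x := g) h1
      rwa [hK', cj_cj_inv] at this
    suffices h : K' ≤ D.P {j} by
      have := cj_mono (x := g) h
      rwa [hK', cj_cj_inv] at this
    intro k hk
    obtain ⟨w, b, hb, m, hm, b', hb', rfl⟩ := D.bru k
    rw [mem_P hb hb' hm]
    by_contra hcon
    have hw1 : w ≠ (0, false) := fun h => hcon (Or.inl h)
    have hw2 : w ≠ sp j := fun h => hcon (Or.inr (Or.inr ⟨j, rfl, h⟩))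
    set K'' := cj b⁻¹ K' with hK''
    have hbV : ∀ c ∈ D.U, cj c (D.V j) = D.V j := fun c hc => cj_nm.1 (U_le_NV j hc)
    have hV1 : D.V j ≤ K'' := by
      have := cj_mono (x := b⁻¹) hV'
      rwa [hbV _ (inv_mem hb)] at this
    have hmem : m * (b' * b) ∈ K'' := by
      rw [hK'', mem_cj, inv_inv]
      have e : b * (m * (b' * b)) * b⁻¹ = b * m * b' := by group
      rwa [e]
    have hV2 : cj m (D.V j) ≤ K'' := by
      have h1 := cj_mono (x := m * (b' * b)) hV1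
      rwa [cj_eq_self hmem, cj_mul, hbV _ (mul_mem hb' hb)] at h1
    have hno : ∀ v : W, ¬ ∀ k, ps k = true → D.X (ac v k) ≤ K'' := by
      intro v hv
      obtain ⟨n, hn⟩ := D.rep v
      apply ha' (b * n)
      have h1 : D.U ≤ cj n⁻¹ K'' := by
        refine D.U_le _ fun k hk x hx => ?_
        rw [mem_cj, inv_inv]
        exact hv k hk ((Mp.conj (D := D) hn) hx)
      have h2 := cj_mono (x := b * n) h1
      rwa [cj_mul b n (cj n⁻¹ K''), cj_cj_inv, hK'', cj_cj_inv] at h2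
    -- roots of `K''`
    have hr1 : ∀ k, nr j k = true → D.X k ≤ K'' := fun k hk => (D.X_le_V j k hk).trans hV1
    have hr2 : ∀ {n : G} {v : W}, D.Mp n v → cj n (D.V j) ≤ K'' → ∀ k, nr j (ac (iw v) k) = true → D.X k ≤ K'' := by
      intro n v hn h1 k hk
      exact (hn.le' (ac_iw v k) (D.X_le_V j _ hk)).trans h1
    rcases e1 j w hw1 hw2 with ⟨v, hv⟩ | h1
    · apply hno v
      intro k hk
      rcases hv k hk with h1 | h1
      · exact hr1 _ h1
      · exact hr2 hm hV2 _ h1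
    · obtain ⟨n, hn, hnM⟩ := refl_mem (hr1 _ (k0_nr j)) (hr2 hm hV2 _ h1)
      have hV3 : cj n (D.V j) ≤ K'' := by
        have := cj_mono (x := n) hV1
        rwa [cj_eq_self hn] at this
      obtain ⟨v, hv⟩ := e2 j
      apply hno v
      intro k hk
      rcases hv k hk with h1 | h1
      · exact hr1 _ h1
      · exact hr2 hnM hV3 _ h1

/-! ### the canonical parabolic subgroup -/

section canon

variable (h2 : IsPGroup 2 D.U) (hs : ∀ S : Subgroup G, D.U ≤ S → IsPGroup 2 S → S = D.U)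

include h2 hs

/-- a subgroup with a nontrivial normal `2`-subgroup lies in a canonical proper parabolic subgroup -/
theorem exists_canon {K N₀ : Subgroup G} (hN : N₀ ≤ K) (hn : ∀ k ∈ K, ∀ v ∈ N₀, k * v * k⁻¹ ∈ N₀)
    (hp : IsPGroup 2 N₀) (h1 : N₀ ≠ ⊥) :
    ∃ (J' : Set (Fin 2)) (g' : G), J' ≠ Set.univ ∧ K ≤ cj g' (D.P J') ∧
      ∀ φ : MulAut G, (∀ k ∈ K, φ k ∈ K) → ∀ x ∈ cj g' (D.P J'), φ x ∈ cj g' (D.P J') := by
  classical
  have : Fact (Nat.Prime 2) := ⟨Nat.prime_two⟩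
  -- `O_p(K)`
  have hO : ∀ {N A : Subgroup G}, A ≤ N → (∀ g ∈ N, ∀ a ∈ A, g * a * g⁻¹ ∈ A) → IsPGroup 2 A →
      A ≤ (pCore 2 ↥N).map N.subtype := by
    intro N A hAN hn hA
    have hAn : (A.subgroupOf N).Normal := by
      refine ⟨fun a ha g => ?_⟩
      rw [Subgroup.mem_subgroupOf] at ha ⊢
      exact hn g g.2 a ha
    have h1 := Lib.Cores.le_pCore hAn (hA.comap_subtype (K := N))
    have h2 := Subgroup.map_mono (f := N.subtype) h1
    rwa [Subgroup.subgroupOf_map_subtype, inf_eq_left.2 hAN] at h2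
  obtain ⟨Q, ⟨hQ1, hQ2, hQ3⟩, hmax⟩ := Set.exists_max_image {Q : Subgroup G | Q ≠ ⊥ ∧ IsPGroup 2 Q ∧
      ∀ φ : MulAut G, H459.Gallery.Iv φ K → H459.Gallery.Iv φ Q}
    (fun Q => Nat.card Q) (Set.toFinite _) ⟨(pCore 2 ↥K).map K.subtype, fun h2 => h1 (le_bot_iff.1 (h2 ▸ hO hN hn hp)),
      (Lib.Cores.pCore_isPGroup (G := K) 2).map _, fun φ hφ => H459.RgdRad.iv_core hφ⟩
  set N := Subgroup.normalizer (Q : Set G) with hNd
  have hNφ : ∀ φ : MulAut G, H459.Gallery.Iv φ K → H459.Gallery.Iv φ N := fun φ hφ => H470.EPK.iv_normalizer (hQ3 φ hφ)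
  have hQN : Q ≤ N := Subgroup.le_normalizer
  have hQO : Q ≤ (pCore 2 ↥N).map N.subtype :=
    hO hQN (fun g hg a ha => (Subgroup.mem_normalizer_iff.1 hg a).1 ha) hQ2
  have hOQ : (pCore 2 ↥N).map N.subtype = Q := by
    refine (Subgroup.eq_of_le_of_card_ge hQO (hmax _ ⟨fun h2 => hQ1 (le_bot_iff.1 (h2 ▸ hQO)),
      (Lib.Cores.pCore_isPGroup (G := N) 2).map _, fun φ hφ => H459.RgdRad.iv_core (hNφ φ hφ)⟩)).symm
  obtain ⟨g₀, hg₀⟩ := exists_le_cj h2 hs hQ2
  obtain ⟨g, J, hJ, h3, h4⟩ := bt hQ1 hg₀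
  set V := cj g (D.VV J) with hV
  have hVp : IsPGroup 2 V := (h2.to_le (VV_le_U J)).map _
  have hPV : cj g (D.P J) ≤ Subgroup.normalizer (V : Set G) := by
    rintro _ ⟨a, ha, rfl⟩
    have h5 : cj a (D.VV J) = D.VV J := cj_nm.1 ha
    rw [cj_nm, hV]
    show cj (g * a * g⁻¹) (cj g (D.VV J)) = _
    rw [← cj_mul, inv_mul_cancel_right, cj_mul, h5]
  have hVQ : V = Q := by
    by_contra hne
    have h5 := SmallSimple.SylowMaxInter.lt_inf_normalizer hVp (lt_of_le_of_ne h3 (Ne.symm hne))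
    have h6 : V ⊓ N ≤ Q := by
      rw [← hOQ]
      refine hO inf_le_right (fun k hk v hv => ⟨?_, N.mul_mem (N.mul_mem hk hv.2) (N.inv_mem hk)⟩)
        (hVp.to_le inf_le_left)
      exact (Subgroup.mem_normalizer_iff.1 (hPV (h4 hk)) v).1 hv.1
    exact lt_irrefl _ (lt_of_lt_of_le h5 h6)
  have hNP : N = cj g (D.P J) := le_antisymm h4 (by rw [hNd, ← hVQ]; exact hPV)
  refine ⟨J, g, hJ, ?_, ?_⟩
  · rw [← hNP]
    intro k hk
    have h5 : H459.Gallery.Iv (MulAut.conj k) Q := hQ3 _ fun a ha => mul_mem (mul_mem hk ha) (inv_mem hk)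
    exact cj_nm.2 h5.map_eq
  · intro φ hφ
    rw [← hNP]
    exact hNφ φ hφ

theorem canon {K : Subgroup G} (hK : K ≠ ⊤) {J : Set (Fin 2)} (hJ : J ≠ Set.univ) {g : G}
    (hV : cj g (D.VV J) ≤ K) : ∃ (J' : Set (Fin 2)) (g' : G), J' ≠ Set.univ ∧ K ≤ cj g' (D.P J') ∧
      ∀ φ : MulAut G, (∀ k ∈ K, φ k ∈ K) → ∀ x ∈ cj g' (D.P J'), φ x ∈ cj g' (D.P J') := by
  obtain ⟨L, g', hL, h3, h4⟩ := exists_PJ hK hJ hV
  refine exists_canon h2 hs h4 (fun k hk v hv => ?_) ((h2.to_le (VV_le_U L)).map _) ?_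
  · obtain ⟨a, ha, rfl⟩ := h3 hk
    obtain ⟨b, hb, rfl⟩ := hv
    refine ⟨a * b * a⁻¹, (Subgroup.mem_normalizer_iff.1 ha b).1 hb, ?_⟩
    simp [mul_assoc]
  · intro h5
    exact VV_ne_bot hL (cj_eq_bot_iff.1 h5)

/-! ### the parabolic system -/

variable (D) in
/-- **the parabolic system** -/
noncomputable def psys : PSys G 2 (Fin 2) where
  P := D.P
  V := D.VV
  P_univ := P_univ
  P_le_iff := P_le_iff
  ov := ov
  V_anti := V_anti
  V_le _ := Subgroup.le_normalizer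
  V_norm _ := le_refl _
  U_norm := rfl
  U_p := by rw [VV_empty]; exact h2
  U_max S hS hS2 := by rw [VV_empty] at hS ⊢; exact hs S hS hS2
  V_max _ hp hn := V_max h2 hs hp hn
  dec hV := dec hV
  canon hK _ hJ _ hV := canon h2 hs hK hJ hV

theorem rk : Rk (D.psys h2 hs) where
  desc := by
    intro J g hg hg0
    change g ∈ D.P J at hg
    change g ∉ D.P ∅ at hg0
    obtain ⟨w, b, hb, m, hm, b', hb', rfl⟩ := D.bru g
    have key : ∀ i : Fin 2, ps (ac (iw w) (sr i)) = false → ∀ u ∈ (D.psys h2 hs).V ∅,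
        (b * m * b')⁻¹ * u * (b * m * b') ∈ (D.psys h2 hs).P ∅ → u ∈ (D.psys h2 hs).V {i} := by
      intro i hi u hu hu'
      change u ∈ D.VV ∅ at hu
      change _ ∈ D.P ∅ at hu'
      change u ∈ D.VV {i}
      rw [VV_empty] at hu
      rw [P_empty] at hu'
      rw [VV_single]
      have h1 : (b * m * b')⁻¹ * u * (b * m * b') ∈ D.U := by
        refine mem_U_of h2 hs (c := (b * m * b')⁻¹) hu' ?_
        rw [mem_cj]
        have e : ((b * m * b')⁻¹)⁻¹ * ((b * m * b')⁻¹ * u * (b * m * b')) * (b * m * b')⁻¹ = u := by group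
        rwa [e]
      have h3 : m⁻¹ * (b⁻¹ * u * b) * m ∈ D.U := by
        have e : m⁻¹ * (b⁻¹ * u * b) * m = b' * ((b * m * b')⁻¹ * u * (b * m * b')) * b'⁻¹ := by group
        rw [e]
        exact mul_mem (mul_mem hb' h1) (inv_mem hb')
      have h4 := D.cut i w m hm hi _ (mul_mem (mul_mem (inv_mem hb) hu) hb) h3
      have h5 := D.V_norm i b hb _ h4
      have e : b * (b⁻¹ * u * b) * b⁻¹ = u := by group
      rwa [e] at h5
    have hw1 : w ≠ (0, false) := fun h => hg0 ((mem_P hb hb' hm).2 (Or.inl h))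
    rcases (mem_P hb hb' hm).1 hg with h3 | h3 | ⟨j, hj, h3⟩
    · exact absurd h3 hw1
    · obtain ⟨i, hi⟩ := e3 w hw1
      exact ⟨i, by rw [h3]; trivial, key i hi⟩
    · refine ⟨j, hj, key j ?_⟩
      have h4 : ∀ i : Fin 2, ps (ac (iw (sp i)) (sr i)) = false := by decide
      rw [h3]; exact h4 j
  trans := by
    intro j x y hx hx0 hy hy0
    change x ∈ D.P {j} at hx
    change y ∈ D.P {j} at hy
    change x ∉ D.P ∅ at hx0
    change y ∉ D.P ∅ at hy0
    have key : ∀ z, z ∈ D.P {j} → z ∉ D.P ∅ → ∃ b ∈ D.U, ∃ m, D.Mp m (sp j) ∧ ∃ b' ∈ D.U, z = b * m * b' := by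
      intro z hz hz0
      obtain ⟨w, b, hb, m, hm, b', hb', rfl⟩ := D.bru z
      have hw1 : w ≠ (0, false) := fun h => hz0 ((mem_P hb hb' hm).2 (Or.inl h))
      rcases (mem_P hb hb' hm).1 hz with h3 | h3 | ⟨i, hi, h3⟩
      · exact absurd h3 hw1
      · exact absurd h3 (single_ne_univ j)
      · rw [Set.mem_singleton_iff] at hi
        subst hi
        subst h3
        exact ⟨b, hb, m, hm, b', hb', rfl⟩
    obtain ⟨b, hb, m, hm, b', hb', rfl⟩ := key x hx hx0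
    obtain ⟨c, hc, n, hn, c', hc', rfl⟩ := key y hy hy0
    refine ⟨c * b⁻¹, ?_, ?_⟩
    · show c * b⁻¹ ∈ D.VV ∅
      rw [VV_empty]
      exact mul_mem hc (inv_mem hb)
    · show (c * n * c')⁻¹ * (c * b⁻¹) * (b * m * b') ∈ D.P ∅
      have e : (c * n * c')⁻¹ * (c * b⁻¹) * (b * m * b') = c'⁻¹ * (n⁻¹ * m) * b' := by group
      rw [e, mem_P (inv_mem hc') hb' (hn.inv.mul hm)]
      have h3 : ∀ i : Fin 2, mw (iw (sp i)) (sp i) = (0, false) := by decide
      exact Or.inl (h3 j)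
  ne := by
    intro j h
    change D.VV {j} = D.VV ∅ at h
    rw [VV_single, VV_empty] at h
    exact X_not_le j (D.X_le_U _ (sr_ps j)) h.ge

theorem relIndex_ne_two (j : Fin 2) {a b : G} (ha : a ∈ D.X (sr j)) (hb : b ∈ D.X (sr j)) (ha1 : a ≠ 1) (hb1 : b ≠ 1)
    (hab : a ≠ b) : ((D.psys h2 hs).V {j}).relIndex ((D.psys h2 hs).V ∅) ≠ 2 := by
  intro h
  change (D.VV {j}).relIndex (D.VV ∅) = 2 at h
  rw [VV_single, VV_empty] at h
  have haU := D.X_le_U _ (sr_ps j) ha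
  have hbU := D.X_le_U _ (sr_ps j) hb
  have h3 : ∀ x ∈ D.X (sr j), x ∈ D.V j → x = 1 := D.not_V j (sr j) (sr_not_nr j)
  have h4 := Subgroup.index_eq_two_iff.1 (show ((D.V j).subgroupOf D.U).index = 2 from h)
  obtain ⟨c, hc⟩ := h4
  have h5 : ∀ x : D.U, ((x : G) ∈ D.V j) → ((x * c : D.U) : G) ∉ D.V j := by
    intro x hx
    rcases hc x with ⟨k1, k2⟩ | ⟨k1, k2⟩
    · exact absurd hx k2
    · exact k2
  have h6 : ∀ x : D.U, ((x : G) ∉ D.V j) → ((x * c : D.U) : G) ∈ D.V j := by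
    intro x hx
    rcases hc x with ⟨k1, k2⟩ | ⟨k1, k2⟩
    · exact k1
    · exact absurd k1 hx
  have ka := h6 ⟨a, haU⟩ (fun k => ha1 (h3 a ha k))
  have kb := h6 ⟨b, hbU⟩ (fun k => hb1 (h3 b hb k))
  have kc := mul_mem ka (inv_mem kb)
  have e : ((⟨a, haU⟩ * c : D.U) : G) * ((⟨b, hbU⟩ * c : D.U) : G)⁻¹ = a * b⁻¹ := by
    show a * (c : G) * (b * (c : G))⁻¹ = a * b⁻¹
    group
  rw [e] at kc
  exact hab (mul_inv_eq_one.1 (h3 _ (mul_mem ha (inv_mem hb)) kc))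

end canon

end OD

end Cfsg.Agent.H564.EPF
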